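import Groth.Agent.BreakDeg.Curves
import Groth.Agent.Nakai.ClMul
import Groth.Agent.PtPush.InterNum
import Groth.Agent.PtBlow.Rational
import Groth.Agent.PtBlow.Contraction
import Groth.Agent.PtBlow.ExcDescend
import Groth.Agent.Castel.BlowLine
import Groth.Agent.Castel.LineVanish
import Groth.Agent.Castel.Surface
import Groth.Agent.W7Fib.Birat
import Groth.Agent.DeltaNorm.NodalCount
import Groth.Prelude.Def_Curve
import Mathlib

/-!
# Invertible modules on the blow-up of a point of a surface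
-/

set_option autoImplicit false
set_option linter.style.haveILetI false
set_option linter.unusedSectionVars false
set_option backward.isDefEq.respectTransparency false
set_option backward.isDefEq.respectTransparency.types false
set_option synthInstance.maxHeartbeats 400000
set_option maxHeartbeats 1000000

universe u

open CategoryTheory CategoryTheory.Limits AlgebraicGeometry TopologicalSpace

noncomputable section

namespace Groth.Agent.BreakDeg

/-- A proper integral regular scheme of dimension at most two over a field. -/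
structure Surf (k : Type u) [Field k] (Z : Scheme.{u}) [Z.Over (Spec (CommRingCat.of k))] : Prop where
  proper : IsProper (Z ↘ Spec (CommRingCat.of k))
  integral : IsIntegral Z
  dim : topologicalKrullDim Z ≤ (2 : ℕ)
  reg : ∀ z : Z, IsRegularLocalRing (Z.presheaf.stalk z)

variable (k : Type u) [Field k] [IsAlgClosed k] {Y Z : Scheme.{u}} [Z.Over (Spec (CommRingCat.of k))]
  [Y.Over (Spec (CommRingCat.of k))] {b : Y ⟶ Z} {z : Z} {hz : PtBlow.IsRegPt Z z}
  (hb : BlowUp.IsBlowUp b (PtBlow.pt hz))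
  (hover : b ≫ (Z ↘ Spec (CommRingCat.of k)) = Y ↘ Spec (CommRingCat.of k)) (hZ : Surf k Z)

include hb hover hZ

theorem surf_blowUp : Surf k Y := by
  haveI := hZ.proper
  haveI := hZ.integral
  haveI := CurveRR.isNoetherian_of_proper k Z
  haveI := PtBlow.isProper_blowUp hz hb
  haveI hYi := W7Fib.isIntegral_blowUp (PtBlow.pt_ne_bot hz) hb
  haveI hYp : IsProper (Y ↘ Spec (CommRingCat.of k)) := by rw [← hover]; infer_instance
  refine ⟨hYp, hYi, PtBlow.dim_le_of_birational b ?_ hZ.dim, PtBlow.isRegular_blowUp hz hb hZ.reg⟩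
  refine ⟨(PtBlow.pt hz).support.compl, ⟨genericPoint Z, ?_⟩, BlowUpLib.isIso_restrict hb⟩
  show genericPoint Z ∉ ((PtBlow.pt hz).support : Set Z)
  rw [PtBlow.coe_support_pt hz]
  exact PtBlow.genericPoint_ne hz

/-- The exceptional line over the ground field. -/
theorem exists_line : ∃ l : CohB1.ProjSpace 1 k ⟶ Y, IsClosedImmersion l ∧
    l ≫ (Y ↘ Spec (CommRingCat.of k)) = CohB1.ProjSpace.toSpec 1 k ∧ l.ker = (PtBlow.pt hz).comap b ∧
    Set.range l = b ⁻¹' {z} ∧
    Nonempty ((Scheme.Modules.pullback l).obj (ClSub.idealMod l.ker) ≅ Twist.twistProjSpace 1 k 1) := by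
  haveI := hZ.proper
  haveI := CurveRR.isNoetherian_of_proper k Z
  obtain ⟨k', _, ι, hι, hexc, -, hker, hrange, i, hi, -, hib⟩ := PtBlow.exists_contraction'' hz hb
  haveI := hι
  haveI := hi
  obtain ⟨-, k₁, _, e', ⟨c⟩⟩ := hexc
  let σ := i ≫ (Z ↘ Spec (CommRingCat.of k))
  haveI : IsIso σ := by
    obtain ⟨α, hα⟩ : ∃ α, Spec.map α = σ := ⟨_, Spec.map_preimage _⟩
    haveI : IsIso α := by
      haveI : LocallyOfFiniteType (Spec.map α) := hα ▸ inferInstance
      letI : Algebra k k' := α.hom.toAlgebra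
      haveI : Algebra.FiniteType k k' :=
        RingHom.finiteType_algebraMap.mp ((HasRingHomProperty.Spec_iff (P := @LocallyOfFiniteType)).mp ‹_›)
      haveI : Module.Finite k k' := finite_of_finite_type_of_isJacobsonRing k k'
      exact (ConcreteCategory.isIso_iff_bijective α).2 (IsAlgClosed.algebraMap_bijective_of_isIntegral (k := k) (K := k'))
    rw [← hα]; infer_instance
  obtain ⟨f, hf⟩ := Castel.exists_line_iso (asIso σ)
  refine ⟨f.inv ≫ ι, inferInstance, ?_, ?_, ?_, ?_⟩
  · rw [← hover, Category.assoc, reassoc_of% hib, ← cancel_epi f.hom, Iso.hom_inv_id_assoc, hf]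
    rfl
  · rw [Scheme.Hom.ker_comp_of_isIso, hker]
  · rw [← hrange]
    ext y
    refine ⟨?_, ?_⟩
    · rintro ⟨a, rfl⟩; exact ⟨f.inv a, rfl⟩
    · rintro ⟨a, rfl⟩
      obtain ⟨a', rfl⟩ := f.inv.surjective a
      exact ⟨a', rfl⟩
  · obtain ⟨t⟩ := Castel.nonempty_twist_of_iso (f.symm ≪≫ e'.symm)
    have hpath : f.inv ≫ ι = (f.symm ≪≫ e'.symm).hom ≫ e'.hom ≫ ι := by simp
    exact ⟨(Scheme.Modules.pullback (f.inv ≫ ι)).mapIso (eqToIso (by rw [Scheme.Hom.ker_comp_of_isIso])) ≪≫
      (Scheme.Modules.pullbackCongr hpath).app _ ≪≫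
      ((Scheme.Modules.pullbackComp _ _).app _).symm ≪≫ (Scheme.Modules.pullback _).mapIso c ≪≫ t⟩

/-- Descent of an invertible module along a point blow-up: `M = b^*M' ⊗ I_E^a` with `a` its degree on the line,
and `M'^2 = M^2 + a^2`. -/
theorem exists_descent {M : Y.Modules} (hM : PicF.IsInvertible M) {l : CohB1.ProjSpace 1 k ⟶ Y}
    [IsClosedImmersion l] (hl : l ≫ (Y ↘ Spec (CommRingCat.of k)) = CohB1.ProjSpace.toSpec 1 k)
    (hlk : l.ker = (PtBlow.pt hz).comap b) (hlr : Set.range l = b ⁻¹' {z})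
    (c : (Scheme.Modules.pullback l).obj (ClSub.idealMod l.ker) ≅ Twist.twistProjSpace 1 k 1)
    (a : ℕ) (ha : pdeg k l M = a) :
    ∃ M' : Z.Modules, PicF.IsInvertible M' ∧
      Nonempty (M ≅ CohB1.tensorMod ((Scheme.Modules.pullback b).obj M') (CohB1.tensorPow (ClSub.idealMod l.ker) a)) ∧
      Nakai.inter k M' M' = Nakai.inter k M M + (a : ℚ) ^ 2 := by
  have hY := surf_blowUp k hb hover hZ
  haveI := hZ.proper
  haveI := hY.proper
  haveI := hY.integral
  haveI := CurveRR.isNoetherian_of_proper k Z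
  haveI := CurveRR.isNoetherian_of_proper k Y
  haveI : IsIntegral (CohB1.ProjSpace 1 k) := Horrocks.isIntegral_projSpace
  haveI : IsProper (CohB1.ProjSpace 1 k ↘ Spec (CommRingCat.of k)) := ProjMor.isProper_toSpec 1 k
  have hP1 : topologicalKrullDim (CohB1.ProjSpace 1 k) = 1 := Groth.Agent.S10829.result k 1
  have hE : BlowUp.IsEffCartierIdeal l.ker := hlk ▸ hb.1
  have hI : PicF.IsInvertible (ClSub.idealMod l.ker) := (Groth.Agent.S8914.result _).2 hE
  obtain ⟨J, hJ, hIJ⟩ := W7Hull.exists_tensor_inverse hI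
  have hP := TMul.isInvertible_tensorPow hJ a
  have hPI := TMul.isInvertible_tensorPow hI a
  let F := CohB1.tensorMod M (CohB1.tensorPow J a)
  have hF : PicF.IsInvertible F := TMul.isInvertible_tensorMod hM hP
  have hdI : pdeg k l (ClSub.idealMod l.ker) = 1 :=
    (W7Slope.deg_iso (k := k) c 1).trans (Castel.deg_twist_line k 1)
  have hdJ : pdeg k l J = -1 := by
    have h := pdeg_tensor k hP1 l hI hJ
    rw [pdeg_iso k l hIJ.some,
      show pdeg k l (Coh.structureModule Y) = 0 from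
        (W7Slope.deg_iso (k := k) (PicLoc.pullbackStructureIso l) 1).trans CurveRR.deg_structure, hdI] at h
    omega
  have hdP : ∀ n : ℕ, pdeg k l (CohB1.tensorPow J n) = -(n : ℤ) := fun n => by
    have h := CurveRR.deg_tensorPow (k := k) hP1.le (PicLoc.isInvertible_pullback l hJ) n
    rw [show Curv2.deg k _ ((Scheme.Modules.pullback l).obj J) 1 = -1 from hdJ] at h
    refine (W7Slope.deg_iso (k := k) (TMul.nonempty_pullPowIso l J n).some.symm 1).trans (h.trans (by ring))
  have hdF : pdeg k l F = 0 := by rw [pdeg_tensor k hP1 l hM hP, ha, hdP]; ring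
  obtain ⟨d, ⟨ed⟩⟩ := PicPn.exists_iso (k := k) (n := 1) le_rfl _ (PicLoc.isInvertible_pullback l hF)
  obtain rfl : d = 0 := by
    have h := (W7Slope.deg_iso (k := k) ed 1).symm.trans hdF
    rwa [Castel.deg_twist_line] at h
  obtain ⟨o⟩ := Horrocks.Om_zero (k := k) (d := 1)
  obtain ⟨M', hM', ⟨eM⟩⟩ := Castel.exists_descent_blowUp hz hb l hlr.symm hE (m := 1) (by norm_num) c hF (ed ≪≫ o)
  have hb' := PicLoc.isInvertible_pullback b hM'
  have hcl : PicF.cl M = PicF.cl (CohB1.tensorMod ((Scheme.Modules.pullback b).obj M')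
      (CohB1.tensorPow (ClSub.idealMod l.ker) a)) := by
    letI := Nakai.clMonoid Y
    rw [Nakai.cl_tensor, Nakai.cl_pow, (PicGrp.cl_eq_cl_iff _ _).2 ⟨eM⟩, Nakai.cl_tensor, Nakai.cl_pow, mul_assoc,
      ← mul_pow, ← Nakai.cl_tensor, (PicGrp.cl_eq_cl_iff _ _).2 ⟨TMul.commIso J (ClSub.idealMod l.ker) ≪≫ hIJ.some⟩,
      Nakai.cl_one, one_pow, mul_one]
  refine ⟨M', hM', Nakai.iso_of_cl hcl, ?_⟩
  have hd := hY.dim
  obtain ⟨h1, h2, h3⟩ := PtPush.intNum_blowUp hz k hover hZ.reg hb hZ.dim hd M' M' hM' hM'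
  letI : Algebra k (Z.residueField z) := Curv2.resAlgebra k Z z
  rw [DeltaNorm.finrank_residueField_one k hz.closed] at h3
  have hex : BlowUp.exceptional b (PtBlow.pt hz) = l.ker := hlk.symm
  rw [hex] at h2 h3
  have g1 : Nakai.inter k ((Scheme.Modules.pullback b).obj M') ((Scheme.Modules.pullback b).obj M') =
      Nakai.inter k M' M' := by
    rw [← Nakai.intNum_eq_inter k hd, h1, Nakai.intNum_eq_inter k hZ.dim]
  have g2 : Nakai.inter k ((Scheme.Modules.pullback b).obj M') (ClSub.idealMod l.ker) = 0 := by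
    rw [← Nakai.intNum_eq_inter k hd, h2]; simp
  have g3 : Nakai.inter k (ClSub.idealMod l.ker) (ClSub.idealMod l.ker) = -1 := by
    rw [← Nakai.intNum_eq_inter k hd, h3]; simp
  have g2' : Nakai.inter k (ClSub.idealMod l.ker) ((Scheme.Modules.pullback b).obj M') = 0 := by
    rw [Nakai.inter_comm]; exact g2
  have hexp : Nakai.inter k M M = Nakai.inter k
      (CohB1.tensorMod ((Scheme.Modules.pullback b).obj M') (CohB1.tensorPow (ClSub.idealMod l.ker) a))
      (CohB1.tensorMod ((Scheme.Modules.pullback b).obj M') (CohB1.tensorPow (ClSub.idealMod l.ker) a)) := by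
    rw [Nakai.inter_iso k hcl M, Nakai.inter_comm k _ M, Nakai.inter_iso k hcl]
  have hT := TMul.isInvertible_tensorMod hb' hPI
  rw [Nakai.inter_tensor k hd hb' hPI hT, Nakai.inter_tensor_right k hd hb' hPI hb',
    Nakai.inter_tensor_right k hd hb' hPI hPI, Nakai.inter_pow_right k hd hI hb', Nakai.inter_pow k hd hI hb',
    Nakai.inter_pow k hd hI hPI, Nakai.inter_pow_right k hd hI hI, g1, g2, g2', g3] at hexp
  rw [hexp]
  ring

end Groth.Agent.BreakDeg
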