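import Groth.Agent.CurveRR.Ample
import Groth.Agent.CurveRR.Cartier
import Groth.Agent.CurveRR.Curve
import Groth.Agent.CurveRR.Point
import Groth.Agent.CurveRR.GlobGen
import Groth.Agent.CurveRR.SmoothPt
import Groth.Agent.Castel.PicDescent
import Groth.Agent.Nakai.PullIdeal
import Groth.Agent.Nakai.Kleiman
import Groth.Agent.Nakai.HodgeNef
import Groth.Agent.W7Slope.Hom
import Groth.Agent.W7Slope.Twist
import Groth.Agent.W7Cover.Basic
import Groth.Agent.TMul.RelAmple
import Groth.Agent.RatExt.Points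
import Groth.Agent.S1570
import Groth.Agent.RegDual.Scheme
import Mathlib

/-!
# Degrees on a smooth curve of invertible modules pulled back from elsewhere
-/

set_option autoImplicit false
set_option linter.style.haveILetI false
set_option linter.unusedSectionVars false
set_option backward.isDefEq.respectTransparency false
set_option backward.isDefEq.respectTransparency.types false
set_option synthInstance.maxHeartbeats 400000
set_option maxHeartbeats 1000000

universe u

open CategoryTheory CategoryTheory.Limits AlgebraicGeometry TopologicalSpace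
open Groth.Agent.CurveRR (h)

noncomputable section

namespace Groth.Agent.BreakDeg

variable (k : Type u) [Field k] {D : Scheme.{u}} [D.Over (Spec (CommRingCat.of k))]
  [IsProper (D ↘ Spec (CommRingCat.of k))]

/-- the degree of an invertible module pulled back -/
abbrev pdeg {Z : Scheme.{u}} (φ : D ⟶ Z) (L : Z.Modules) : ℤ :=
  Curv2.deg k D ((Scheme.Modules.pullback φ).obj L) 1

theorem pdeg_comp {Z W : Scheme.{u}} (φ : D ⟶ Z) (g : Z ⟶ W) (L : W.Modules) :
    pdeg k φ ((Scheme.Modules.pullback g).obj L) = pdeg k (φ ≫ g) L :=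
  W7Slope.deg_iso (k := k) ((Scheme.Modules.pullbackComp φ g).app L) 1

theorem pdeg_iso {Z : Scheme.{u}} (φ : D ⟶ Z) {L L' : Z.Modules} (e : L ≅ L') : pdeg k φ L = pdeg k φ L' :=
  W7Slope.deg_iso (k := k) ((Scheme.Modules.pullback φ).mapIso e) 1

theorem pdeg_congr {Z : Scheme.{u}} {φ ψ : D ⟶ Z} (h : φ = ψ) (L : Z.Modules) : pdeg k φ L = pdeg k ψ L := by
  subst h; rfl

variable [IsIntegral D] (hdim : topologicalKrullDim D = 1)

include hdim

theorem pdeg_tensor {Z : Scheme.{u}} (φ : D ⟶ Z) {A B : Z.Modules} (hA : PicF.IsInvertible A)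
    (hB : PicF.IsInvertible B) : pdeg k φ (CohB1.tensorMod A B) = pdeg k φ A + pdeg k φ B := by
  have h := W7Slope.deg_twist (k := k) hdim.le
    (CurveRR.isFinLocFreeOfRank_one (PicLoc.isInvertible_pullback φ hA)) (PicLoc.isInvertible_pullback φ hB)
  rw [Nat.cast_one, one_mul] at h
  rw [← h]
  exact (W7Slope.deg_iso (k := k) (TMul.nonempty_pullTensorIso φ A B).some 1).symm

theorem pdeg_const {Z : Scheme.{u}} (φ : D ⟶ Z) (z : Z) (hz : ∀ d, φ d = z) {L : Z.Modules}
    (hL : PicF.IsInvertible L) : pdeg k φ L = 0 := by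
  obtain ⟨e⟩ := Castel.nonempty_pullback_point φ z hz hL
  exact (W7Slope.deg_iso (k := k) e 1).trans CurveRR.deg_structure

theorem nef_deg_nonneg {L : D.Modules} (hn : Nakai.Nef k L) : 0 ≤ Curv2.deg k D L 1 := by
  haveI := CurveRR.isNoetherian_of_proper k D
  have h := hn (Coh.structureModule D) RefStalk.isCoh_structureModule
    ((Intersect.dim_support_structure (X := D)).trans_le hdim.le)
  rw [CurveRR.euler_eq_of_iso (k := k) (TMul.leftUnitIso L)] at h
  rw [Curv2.deg]
  push_cast
  linarith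

theorem pdeg_nonneg_of_ample {X : Scheme.{u}} [X.Over (Spec (CommRingCat.of k))]
    [IsProper (X ↘ Spec (CommRingCat.of k))] (φ : D ⟶ X)
    (hφ : φ ≫ (X ↘ Spec (CommRingCat.of k)) = D ↘ Spec (CommRingCat.of k)) {L : X.Modules}
    (hL : CohB1.IsAmple L) : 0 ≤ pdeg k φ L := by
  haveI : IsProper φ := by
    haveI : IsProper (φ ≫ (X ↘ Spec (CommRingCat.of k))) := by rw [hφ]; infer_instance
    exact IsProper.of_comp φ (X ↘ Spec (CommRingCat.of k))
  exact nef_deg_nonneg k hdim (Nakai.nef_pullback k φ hφ hL.1 (Nakai.nef_of_isAmple k hL))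

theorem pdeg_pos_of_ample [IsAlgClosed k] {X : Scheme.{u}} [X.Over (Spec (CommRingCat.of k))]
    [IsProper (X ↘ Spec (CommRingCat.of k))] (φ : D ⟶ X)
    (hφ : φ ≫ (X ↘ Spec (CommRingCat.of k)) = D ↘ Spec (CommRingCat.of k)) {L : X.Modules}
    (hL : CohB1.IsAmple L) (hnc : ∀ x : X, ¬ Set.range φ ⊆ {x}) : 0 < pdeg k φ L := by
  haveI : IsFinite φ := W7Cover.isFinite_of_nonconstant (D ↘ Spec (CommRingCat.of k))
    (X ↘ Spec (CommRingCat.of k)) φ hφ hdim.le fun Z hZ _ => by
      rw [irreducibleComponents_eq_singleton, Set.mem_singleton_iff] at hZ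
      subst hZ
      rw [Set.image_univ, ← Set.not_subsingleton_iff]
      intro hs
      exact hnc (φ (genericPoint D)) fun y hy => hs hy ⟨_, rfl⟩
  exact CurveRR.deg_pos_of_isAmple (k := k) hdim (TMul.isAmple_pullback_of_isAffineHom φ hL)

variable [IsAlgClosed k] (hreg : ∀ x : D, IsRegularLocalRing (D.presheaf.stalk x))

include k hreg

/-- Nonzero ideals on a regular curve are effective Cartier. -/
theorem cartier_of_notMem (K : D.IdealSheafData) (hK : genericPoint D ∉ K.support) :
    BlowUp.IsEffCartierIdeal K := by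
  haveI := CurveRR.isNoetherian_of_proper k D
  refine Groth.Agent.S1570.result D K fun x _ U hxU => ?_
  obtain ⟨hdom, hval⟩ := RatExt.domain_valuationRing_of_regular (hreg x)
    ((RegDual.ringKrullDim_stalk_le_topologicalKrullDim x).trans hdim.le)
  haveI := hdom
  haveI := hval
  haveI : IsNoetherianRing (D.presheaf.stalk x) := inferInstance
  haveI : IsPrincipalIdealRing (D.presheaf.stalk x) := inferInstance
  obtain ⟨g, hg⟩ := (inferInstance : IsPrincipalIdealRing (D.presheaf.stalk x)).principal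
    ((K.ideal U).map (D.presheaf.germ U x hxU).hom)
  refine ⟨g, mem_nonZeroDivisors_of_ne_zero fun hg0 => hK ?_, hg⟩
  have hgenU : genericPoint D ∈ (U : D.Opens) :=
    ((genericPoint_spec D).mem_open_set_iff (U : D.Opens).2).2 ⟨x, trivial, hxU⟩
  haveI : Nonempty ((U : D.Opens) : Scheme.{u}) := ⟨⟨x, hxU⟩⟩
  have h0 : K.ideal U = ⊥ := by
    rw [eq_bot_iff]
    intro a ha
    have h1 : (D.presheaf.germ U x hxU).hom a = 0 := by
      have h2 := Ideal.mem_map_of_mem (D.presheaf.germ U x hxU).hom ha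
      rw [hg, hg0] at h2
      simpa using h2
    exact germ_injective_of_isIntegral D x hxU (h1.trans (map_zero _).symm)
  refine (Scheme.IdealSheafData.mem_support_iff_of_mem (I := K) (U := U) hgenU).2 ?_
  rw [Scheme.mem_zeroLocus_iff]
  intro a ha hmem
  obtain rfl : a = 0 := by rw [h0] at ha; exact ha
  rw [Scheme.basicOpen_zero] at hmem
  exact hmem

theorem deg_idealMod (K : D.IdealSheafData) (hK : genericPoint D ∉ K.support) :
    Curv2.deg k D (ClSub.idealMod K) 1 = -(h k (ClSub.quotMod K) 0 : ℤ) := by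
  haveI := CurveRR.isNoetherian_of_proper k D
  have hC := cartier_of_notMem k hdim hreg K hK
  have h := CurveRR.euler_ideal_tensor (k := k) (TMul.isInvertible_structureModule (X := D)) K
    (CurveRR.cartier_dim_le_zero hdim.le hC)
  rw [CurveRR.euler_eq_of_iso (k := k) (TMul.commIso (ClSub.idealMod K) (Coh.structureModule D) ≪≫ TMul.leftUnitIso _)] at h
  rw [Curv2.deg, h]
  ring

theorem pdeg_idealMod {Z : Scheme.{u}} (φ : D ⟶ Z) {J : Z.IdealSheafData} (hJ : BlowUp.IsEffCartierIdeal J)
    (hg : φ (genericPoint D) ∉ J.support) :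
    pdeg k φ (ClSub.idealMod J) = -(h k (ClSub.quotMod (J.comap φ)) 0 : ℤ) := by
  have hK : genericPoint D ∉ (J.comap φ).support := by
    rw [Scheme.IdealSheafData.support_comap]; exact hg
  obtain ⟨e⟩ := Nakai.nonempty_pullback_idealMod φ hJ (cartier_of_notMem k hdim hreg _ hK)
  exact (W7Slope.deg_iso (k := k) e 1).trans (deg_idealMod k hdim hreg _ hK)

theorem pdeg_idealMod_nonpos {Z : Scheme.{u}} (φ : D ⟶ Z) {J : Z.IdealSheafData} (hJ : BlowUp.IsEffCartierIdeal J)
    (hg : φ (genericPoint D) ∉ J.support) : pdeg k φ (ClSub.idealMod J) ≤ 0 := by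
  rw [pdeg_idealMod k hdim hreg φ hJ hg]; omega

theorem pdeg_idealMod_neg {Z : Scheme.{u}} (φ : D ⟶ Z) {J : Z.IdealSheafData} (hJ : BlowUp.IsEffCartierIdeal J)
    (hg : φ (genericPoint D) ∉ J.support) {d : D} (hd : φ d ∈ J.support) : pdeg k φ (ClSub.idealMod J) ≤ -1 := by
  rw [pdeg_idealMod k hdim hreg φ hJ hg]
  have := CurveRR.h0_quotMod_pos (k := k) (J.comap φ) ⟨d, by
    rw [Scheme.IdealSheafData.support_comap]; exact hd⟩
  omega

theorem pdeg_idealMod_point {Z : Scheme.{u}} (φ : D ⟶ Z) {J : Z.IdealSheafData} (hJ : BlowUp.IsEffCartierIdeal J)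
    (hg : φ (genericPoint D) ∉ J.support) {d : D} (hd : IsClosed ({d} : Set D))
    (hJd : J.comap φ = Scheme.IdealSheafData.vanishingIdeal ⟨{d}, hd⟩) : pdeg k φ (ClSub.idealMod J) = -1 := by
  rw [pdeg_idealMod k hdim hreg φ hJ hg, hJd, CurveRR.h0_quotMod_point (k := k) hd]
  rfl

end Groth.Agent.BreakDeg
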