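import Groth.Agent.BreakDeg.Product
import Groth.Agent.SmoothCompl.Basic
import Groth.Agent.AVRat.AxesSingular
import Groth.Agent.PtBlow.RatMap
import Groth.Agent.DimAffMap.Basic
import Groth.Agent.W7Slope.EndAlg
import Groth.Agent.Castel.Morphism
import Mathlib

/-!
# Bend and break with a degree bound
-/

set_option autoImplicit false
set_option linter.style.haveILetI false
set_option linter.unusedSectionVars false
set_option backward.isDefEq.respectTransparency false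
set_option backward.isDefEq.respectTransparency.types false
set_option synthInstance.maxHeartbeats 400000
set_option maxHeartbeats 2000000

universe u

open CategoryTheory CategoryTheory.Limits AlgebraicGeometry TopologicalSpace

noncomputable section

namespace Groth.Agent.BreakDeg

variable (k : Type u) [Field k] [IsAlgClosed k]

local notation "Sk" => Spec (CommRingCat.of k)

local notation "cl" => IsLocalRing.closedPoint k

/-- A smooth open part of an integral curve inside a smooth proper curve. -/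
theorem exists_model (T : Scheme.{u}) [T.Over Sk] [IsIntegral T] [IsSeparated (T ↘ Sk)]
    [LocallyOfFiniteType (T ↘ Sk)] [CompactSpace T] (hT : topologicalKrullDim T = 1) :
    ∃ (Y : Scheme.{u}) (_ : Y.Over Sk) (T₀ : Scheme.{u}) (jT : T₀ ⟶ T) (jY : T₀ ⟶ Y),
      IsOpenImmersion jT ∧ IsOpenImmersion jY ∧ jT ≫ (T ↘ Sk) = jY ≫ (Y ↘ Sk) ∧
        Curve.IsSmoothProperCurve k Y (Y ↘ Sk) ∧ Nonempty T₀ := by
  let B : Over Sk := Over.mk (T ↘ Sk)
  haveI : IsIntegral B.left := ‹IsIntegral T›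
  haveI : IsSeparated B.hom := ‹IsSeparated (T ↘ Sk)›
  haveI : LocallyOfFiniteType B.hom := ‹LocallyOfFiniteType (T ↘ Sk)›
  haveI : QuasiCompact B.hom := inferInstanceAs (QuasiCompact (T ↘ Sk))
  obtain ⟨B₀, jB, b₀, hjB, hB₀i, hB₀s, hB₀sep, hB₀qc, -⟩ := AVRat.exists_smooth_open B
  haveI := hjB; haveI := hB₀i; haveI := hB₀s; haveI := hB₀sep; haveI := hB₀qc
  have hne : (jB.left.opensRange : Set B.left).Nonempty := ⟨_, b₀.left cl, rfl⟩
  have hd : topologicalKrullDim B₀.left = 1 := by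
    refine Eq.trans ?_ ((DimAffMap.dim_opens B.hom jB.left.opensRange (jB.left.opensRange.2.dense hne)).trans hT)
    exact IsHomeomorph.topologicalKrullDim_eq _ jB.left.isoOpensRange.hom.homeomorph.isHomeomorph
  obtain ⟨Z, q, j, hj, hjq, hZi, hZs, hZd, n, i, hi, hiq⟩ := SmoothCompl.exists_completion B₀.hom hd
  haveI := hi
  haveI : IsProper q := by
    rw [← hiq]
    haveI := ProjMor.isProper_toSpec n k
    infer_instance
  exact ⟨Z, ⟨q⟩, B₀.left, jB.left, j, hjB, hj, (Over.w jB).trans hjq.symm, ⟨‹IsProper q›, hZs, hZi, hZd⟩,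
    ⟨b₀.left cl⟩⟩

/-- Curves which map isomorphically by a projection lift along sequences of point blow-ups. -/
theorem exists_slice_lift {S P D : Scheme.{u}} {g : S ⟶ P} (hg : PtBlow.Seq g) [IsNoetherian P]
    (hdim : topologicalKrullDim P ≤ (2 : ℕ)) [D.Over Sk] (hD : Curve.IsSmoothProperCurve k D (D ↘ Sk))
    (i : D ⟶ P) (π : P ⟶ D) [IsProper π] (hi : i ≫ π = 𝟙 D) : ∃ τ : D ⟶ S, τ ≫ g = i := by
  obtain ⟨hp, hs, hint, hd⟩ := hD
  haveI := hp
  haveI := hs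
  haveI := hint
  haveI := CurveRR.isNoetherian_of_proper k D
  haveI := hg.isProper
  have hξ : ringKrullDim (P.presheaf.stalk (i (genericPoint D))) < 2 := by
    by_contra hcon
    have h2 := le_antisymm ((RegDual.ringKrullDim_stalk_le_topologicalKrullDim _).trans hdim) (not_lt.1 hcon)
    have hcl := π.isClosedMap _ (PtBlow.isClosed_of_dim_two hdim h2)
    rw [Set.image_singleton, ← Scheme.Hom.comp_apply, hi] at hcl
    exact CurveRR.genericPoint_ne_of_closed (k := k) hd hcl rfl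
  obtain ⟨O, hO, hOiso⟩ := BendBreak.seq_iso_nhd hg _ hξ
  haveI := hOiso
  exact BendBreak.exists_lift g O (WeilExt.regular_of_smooth (WeilExt.regular_spec (R := k)) (D ↘ Sk))
    (fun y => (RegDual.ringKrullDim_stalk_le_topologicalKrullDim y).trans hd.le) i ⟨genericPoint D, hO⟩

/-- A connected union of finitely many rational curves and points contains rational curves through each of
its points when it contains one. -/
theorem exists_mem_curve {X : Type u} [TopologicalSpace X] {W : Set X} (hW : _root_.IsConnected W) {ι : Type}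
    [Finite ι] (R : ι → Set X) (hR : ∀ j, IsClosed (R j)) (hRW : ∀ j, R j ⊆ W) (hcov : ∀ w ∈ W, ∃ j, w ∈ R j)
    (p : X) (hp : IsClosed ({p} : Set X)) (hpW : p ∈ W) {j₀ : ι} {x₀ : X} (hx₀ : x₀ ∈ R j₀) (hne : x₀ ≠ p) :
    ∃ j, p ∈ R j ∧ ¬ ∃ x : X, R j ⊆ {x} := by
  by_contra hno
  push Not at hno
  let A := ⋃ j ∈ {j | p ∉ R j}, R j
  have hA : IsClosed A := (Set.toFinite _).isClosed_biUnion fun j _ => hR j
  have hcases : ∀ w ∈ W, w ∈ A ∨ w = p := fun w hw => by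
    obtain ⟨j, hj⟩ := hcov w hw
    by_cases h : p ∈ R j
    · obtain ⟨x, hx⟩ := hno j h
      exact Or.inr ((hx hj).trans (hx h).symm)
    · exact Or.inl (Set.mem_biUnion h hj)
  obtain ⟨w, -, hwA, hwp⟩ := isPreconnected_closed_iff.1 hW.isPreconnected A {p} hA hp
    (fun w hw => hcases w hw)
    ⟨x₀, hRW j₀ hx₀, (hcases x₀ (hRW j₀ hx₀)).resolve_right hne⟩ ⟨p, hpW, rfl⟩
  obtain rfl : w = p := hwp
  obtain ⟨j, hj, hpj⟩ := Set.mem_iUnion₂.1 hwA
  exact hj hpj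

set_option maxHeartbeats 8000000 in
theorem exists_rational_deg_le {X : Scheme.{u}} [X.Over Sk] [IsIntegral X] {N : ℕ} (ι : X ⟶ CohB1.ProjSpace N k)
    [IsClosedImmersion ι] (hι : ι ≫ CohB1.ProjSpace.toSpec N k = X ↘ Sk)
    {C : Scheme.{u}} [C.Over Sk] (hC : Curve.IsSmoothProperCurve k C (C ↘ Sk))
    {T : Scheme.{u}} [T.Over Sk] [IsIntegral T] [IsSeparated (T ↘ Sk)]
    [LocallyOfFiniteType (T ↘ Sk)] [CompactSpace T] (hT : topologicalKrullDim T = 1)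
    (t₀ : Sk ⟶ T) (ht₀ : t₀ ≫ (T ↘ Sk) = 𝟙 _)
    (F : pullback (C ↘ Sk) (T ↘ Sk) ⟶ X) (hF : F ≫ (X ↘ Sk) = pullback.fst (C ↘ Sk) (T ↘ Sk) ≫ (C ↘ Sk))
    (s : C ⟶ pullback (C ↘ Sk) (T ↘ Sk)) (hs₁ : s ≫ pullback.fst (C ↘ Sk) (T ↘ Sk) = 𝟙 C)
    (hs₂ : s ≫ pullback.snd (C ↘ Sk) (T ↘ Sk) = (C ↘ Sk) ≫ t₀)
    (f : C ⟶ X) (hf : f = s ≫ F)
    (B : Finset C) (hB : B.Nonempty) (hBc : ∀ b ∈ B, IsClosed ({b} : Set C))
    (hfix : ∀ b ∈ B, ∀ z : ↥(pullback (C ↘ Sk) (T ↘ Sk)),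
      (pullback.fst (C ↘ Sk) (T ↘ Sk)) z = b → F z = f b)
    (hnontriv : ¬ ∃ h : C ⟶ X, F = pullback.fst (C ↘ Sk) (T ↘ Sk) ≫ h) :
    ∃ g : CohB1.ProjSpace 1 k ⟶ X, g ≫ (X ↘ Sk) = CohB1.ProjSpace.toSpec 1 k ∧
      (¬ ∃ x : X, Set.range g ⊆ {x}) ∧ (∃ b ∈ B, f b ∈ Set.range g) ∧
      Curv2.deg k (CohB1.ProjSpace 1 k) ((Scheme.Modules.pullback (g ≫ ι)).obj (Twist.twistProjSpace N k 1)) 1 *
          (B.card : ℤ) ≤
        2 * Curv2.deg k C ((Scheme.Modules.pullback (f ≫ ι)).obj (Twist.twistProjSpace N k 1)) 1 := by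
  classical
  obtain ⟨hCp, hCs, hCi, hCd⟩ := id hC
  haveI := hCp; haveI := hCs; haveI := hCi
  haveI := ProjMor.isProper_toSpec N k
  haveI : IsProper (CohB1.ProjSpace N k ↘ Sk) := ProjMor.isProper_toSpec N k
  haveI : IsProper (X ↘ Sk) := by rw [← hι]; infer_instance
  obtain ⟨Y, oY, T₀, jT, jY, hjT, hjY, hjover, hY, ⟨τ₀⟩⟩ := exists_model k T hT
  letI := oY
  obtain ⟨hYp, hYs, hYi, hYd⟩ := id hY
  haveI := hYp; haveI := hYs; haveI := hYi; haveI := hjT; haveI := hjY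
  haveI : JacobsonSpace C := LocallyOfFiniteType.jacobsonSpace (C ↘ Sk)
  -- the product surface
  obtain ⟨hPi, hPp, hPs, hPd⟩ := surf_prod k hC hY
  let P := pullback (C ↘ Sk) (Y ↘ Sk)
  letI oP : P.Over Sk := ⟨pullback.fst _ _ ≫ (C ↘ Sk)⟩
  haveI : IsIntegral P := hPi
  haveI : IsProper (P ↘ Sk) := hPp
  haveI : Smooth (P ↘ Sk) := hPs
  haveI := CurveRR.isNoetherian_of_proper k P
  have hPreg := WeilExt.regular_of_smooth (WeilExt.regular_spec (R := k)) (P ↘ Sk)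
  let U₁ : Y.Opens := jY.opensRange
  let U : P.Opens := (pullback.snd (C ↘ Sk) (Y ↘ Sk)) ⁻¹ᵁ U₁
  have hU₁ : (U₁ : Set Y).Nonempty := ⟨jY τ₀, τ₀, rfl⟩
  -- points
  have hkey : ∀ {D : Scheme.{u}} [D.Over Sk] (p : Sk ⟶ D), p ≫ (D ↘ Sk) = 𝟙 _ → ∀ (z : ↥(Sk)), p z = p cl :=
    fun p _ z => congrArg p (Subsingleton.elim (α := PrimeSpectrum k) _ _)
  obtain ⟨y₁, hy₁, hy₁U, -⟩ := exists_point_avoiding k hY Set.finite_empty (by simp) U₁ hU₁
  have hUne : (U : Set P).Nonempty := ⟨(hsl k y₁ hy₁) (genericPoint C), by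
    show (pullback.snd (C ↘ Sk) (Y ↘ Sk)) (hsl k y₁ hy₁ _) ∈ U₁
    rw [← Scheme.Hom.comp_apply, pullback.lift_snd, Scheme.Hom.comp_apply, hkey y₁ hy₁]; exact hy₁U⟩
  -- the family on the open part
  let l : (U : Scheme.{u}) ⟶ T₀ := IsOpenImmersion.lift jY (U.ι ≫ pullback.snd _ _) (by
    rintro _ ⟨w, rfl⟩
    exact w.2)
  have hl : l ≫ jY = U.ι ≫ pullback.snd _ _ := IsOpenImmersion.lift_fac _ _ _
  let lam : (U : Scheme.{u}) ⟶ pullback (C ↘ Sk) (T ↘ Sk) :=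
    pullback.lift (U.ι ≫ pullback.fst _ _) (l ≫ jT) (by
      rw [Category.assoc, Category.assoc, hjover, reassoc_of% hl, pullback.condition])
  have hlam₁ : lam ≫ pullback.fst _ _ = U.ι ≫ pullback.fst _ _ := pullback.lift_fst _ _ _
  obtain ⟨S, g, e, hg, he, hres⟩ := PtBlow.exists_morphism hPreg hPd.le (P ↘ Sk) (X ↘ Sk) U hUne (lam ≫ F)
    (by rw [Category.assoc, hF, ← Category.assoc, hlam₁, Category.assoc]; rfl)
  letI oS : S.Over Sk := ⟨g ≫ (P ↘ Sk)⟩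
  have hP2 : Surf k P := ⟨‹_›, ‹_›, hPd.le, hPreg⟩
  have hS2 : Surf k S := surf_seq k hg oP oS rfl hP2
  haveI := hS2.proper
  have heι : (e ≫ ι) ≫ (CohB1.ProjSpace N k ↘ Sk) = S ↘ Sk := by
    rw [Category.assoc]
    show e ≫ ι ≫ CohB1.ProjSpace.toSpec N k = _
    rw [hι, he]
    rfl
  haveI : IsProper (e ≫ ι) := by
    haveI : IsProper ((e ≫ ι) ≫ (CohB1.ProjSpace N k ↘ Sk)) := by rw [heι]; infer_instance
    exact IsProper.of_comp (e ≫ ι) (CohB1.ProjSpace N k ↘ Sk)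
  have hO1 := Castel.isAmple_twist N k
  let M : S.Modules := (Scheme.Modules.pullback (e ≫ ι)).obj (Twist.twistProjSpace N k 1)
  have hM : PicF.IsInvertible M := PicLoc.isInvertible_pullback _ hO1.1
  have hnef : Nef1 k M := by
    intro D oD hD φ hφ
    obtain ⟨hDp, hDs, hDi, hDd⟩ := id hD
    haveI := hDp; haveI := hDi
    rw [pdeg_comp]
    exact pdeg_nonneg_of_ample k hDd (φ ≫ e ≫ ι) (by rw [Category.assoc, heι, hφ]) hO1
  have hMM : 0 ≤ Nakai.inter k M M := Nakai.inter_self_nonneg_of_nef k hS2.dim hM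
    (Nakai.nef_pullback k (e ≫ ι) heι hO1.1 (Nakai.nef_of_isAmple k hO1))
  -- values of the resolved morphism over the open part
  have hval : ∀ {D : Scheme.{u}} (τ : D ⟶ S) (hτ : Set.range (τ ≫ g) ⊆ Set.range U.ι),
      τ ≫ e = IsOpenImmersion.lift U.ι (τ ≫ g) hτ ≫ lam ≫ F := fun {D} τ hτ => by
    have hr : Set.range τ ⊆ Set.range (g ⁻¹ᵁ U).ι := by
      rw [Scheme.Opens.range_ι]
      rintro _ ⟨w, rfl⟩
      have := hτ ⟨w, rfl⟩
      rwa [Scheme.Opens.range_ι, Scheme.Hom.comp_apply] at this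
    have h1 : IsOpenImmersion.lift (g ⁻¹ᵁ U).ι τ hr ≫ (g ∣_ U) = IsOpenImmersion.lift U.ι (τ ≫ g) hτ := by
      rw [← cancel_mono U.ι, Category.assoc, morphismRestrict_ι, IsOpenImmersion.lift_fac_assoc,
        IsOpenImmersion.lift_fac]
    calc τ ≫ e = IsOpenImmersion.lift (g ⁻¹ᵁ U).ι τ hr ≫ (g ⁻¹ᵁ U).ι ≫ e := by rw [IsOpenImmersion.lift_fac_assoc]
      _ = _ := by rw [hres, ← h1, Category.assoc]
  -- lifts of slices
  haveI : IsProper (pullback.fst (C ↘ Sk) (Y ↘ Sk)) := MorphismProperty.pullback_fst (P := @IsProper) _ _ hYp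
  haveI : IsProper (pullback.snd (C ↘ Sk) (Y ↘ Sk)) := MorphismProperty.pullback_snd (P := @IsProper) _ _ hCp
  choose τv hτv using fun c : {c : Sk ⟶ C // c ≫ (C ↘ Sk) = 𝟙 _} =>
    exists_slice_lift k hg hPd.le hY (vsl k c.1 c.2) (pullback.snd _ _) (pullback.lift_snd _ _ _)
  choose τh hτh using fun y : {y : Sk ⟶ Y // y ≫ (Y ↘ Sk) = 𝟙 _} =>
    exists_slice_lift k hg hPd.le hC (hsl k y.1 y.2) (pullback.fst _ _) (pullback.lift_fst _ _ _)
  -- the marked sections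
  let β : Fin B.card → C := fun i => (B.equivFin.symm i).1
  have hβ : ∀ i, β i ∈ B := fun i => (B.equivFin.symm i).2
  let pb : ∀ i, {c : Sk ⟶ C // c ≫ (C ↘ Sk) = 𝟙 _} := fun i =>
    ⟨pointOfClosedPoint (C ↘ Sk) (β i) (hBc _ (hβ i)), pointOfClosedPoint_comp _ _ _⟩
  have hpb : ∀ i, (pb i).1 cl = β i := fun i => pointOfClosedPoint_apply _ _ _ cl
  let σ : Fin B.card → (Y ⟶ S) := fun i => τv (pb i)
  have hσfst : ∀ i (y : Y), (pullback.fst (C ↘ Sk) (Y ↘ Sk)) (g (σ i y)) = β i := fun i y => by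
    rw [← Scheme.Hom.comp_apply (σ i) g, hτv, ← Scheme.Hom.comp_apply, pullback.lift_fst, Scheme.Hom.comp_apply,
      hkey _ (pb i).2, hpb]
  haveI : IsSeparated (X ↘ Sk) := inferInstance
  haveI : IsProper f := by
    haveI : IsProper (f ≫ (X ↘ Sk)) := by rw [hf, Category.assoc, hF, reassoc_of% hs₁]; infer_instance
    exact IsProper.of_comp f (X ↘ Sk)
  have hfc : ∀ b ∈ B, IsClosed ({f b} : Set X) := fun b hb => by
    have := f.isClosedMap _ (hBc b hb)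
    rwa [Set.image_singleton] at this
  have hσval : ∀ i (y : Y), e (σ i y) = f (β i) := fun i => by
    have hU : ∀ y ∈ U₁, e (σ i y) = f (β i) := fun y hy => by
      have hw : g (σ i y) ∈ U := by
        show (pullback.snd (C ↘ Sk) (Y ↘ Sk)) _ ∈ U₁
        rw [← Scheme.Hom.comp_apply (σ i) g, hτv, ← Scheme.Hom.comp_apply, pullback.lift_snd]
        exact hy
      have h1 : e (σ i y) = F (lam ⟨_, hw⟩) := by
        have h2 := congr($hres ⟨σ i y, hw⟩)
        simp only [Scheme.Hom.comp_apply] at h2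
        refine h2.trans (congrArg (fun w => F (lam w)) (Subtype.ext ?_))
        rw [morphismRestrict_base_coe]
      rw [h1]
      refine hfix _ (hβ i) _ ?_
      rw [← Scheme.Hom.comp_apply lam, hlam₁, Scheme.Hom.comp_apply]
      exact hσfst i y
    intro y
    refine ((genericPoint_specializes y).map (σ i ≫ e).continuous).mem_closed (hfc _ (hβ i)) ?_
    show (σ i ≫ e) (genericPoint Y) ∈ ({f (β i)} : Set X)
    rw [Scheme.Hom.comp_apply]
    exact hU _ (((genericPoint_spec Y).mem_open_set_iff U₁.2).2 (by simpa using hU₁))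
  have hσM : ∀ i, pdeg k (σ i) M = 0 := fun i => by
    rw [pdeg_comp]
    exact pdeg_const k hYd _ (ι (f (β i))) (fun y => by
      rw [Scheme.Hom.comp_apply, Scheme.Hom.comp_apply, hσval]) hO1.1
  have hσsec : ∀ i, σ i ≫ g ≫ pullback.snd (C ↘ Sk) (Y ↘ Sk) = 𝟙 Y := fun i => by
    rw [reassoc_of% (hτv (pb i))]
    exact pullback.lift_snd _ _ _
  have hdisj : ∀ i j, i ≠ j → ∀ y, g (σ i y) ≠ g (σ j y) := fun i j hij y h => hij (by
    have := congrArg (fun z => (pullback.fst (C ↘ Sk) (Y ↘ Sk)) z) h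
    simp only [hσfst] at this
    exact B.equivFin.symm.injective (Subtype.ext this))
  -- the degree of the family
  let O1 := (Scheme.Modules.pullback (F ≫ ι)).obj (Twist.twistProjSpace N k 1)
  let d := Curv2.deg k C ((Scheme.Modules.pullback (f ≫ ι)).obj (Twist.twistProjSpace N k 1)) 1
  have hfover : f ≫ (X ↘ Sk) = C ↘ Sk := by rw [hf, Category.assoc, hF, reassoc_of% hs₁]
  have hd0 : 0 ≤ d := pdeg_nonneg_of_ample k hCd (f ≫ ι)
    (show (f ≫ ι) ≫ CohB1.ProjSpace.toSpec N k = _ by rw [Category.assoc, hι, hfover]) hO1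
  by_cases hgood : Good k σ M (2 * d) B.card
  · obtain ⟨W, hW, ⟨i, t, hit⟩, n, φ, hφ, hcov, j₀, hj₀⟩ := hgood
    have hover : ∀ j, (φ j ≫ e) ≫ (X ↘ Sk) = CohB1.ProjSpace.toSpec 1 k := fun j => by
      rw [Category.assoc, he]; exact (hφ j).1
    haveI hP1p : IsProper (CohB1.ProjSpace 1 k ↘ Sk) := ProjMor.isProper_toSpec 1 k
    haveI : IsIntegral (CohB1.ProjSpace 1 k) := Horrocks.isIntegral_projSpace
    have hR : ∀ j, IsClosed (Set.range (φ j ≫ e)) := fun j => by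
      haveI : IsProper ((φ j ≫ e) ≫ (X ↘ Sk)) := by rw [hover]; exact ProjMor.isProper_toSpec 1 k
      haveI : IsProper (φ j ≫ e) := IsProper.of_comp (φ j ≫ e) (X ↘ Sk)
      exact (φ j ≫ e).isClosedMap.isClosed_range
    have hRW : ∀ j, Set.range (φ j ≫ e) ⊆ e '' W := fun j => by
      rintro _ ⟨w, rfl⟩
      exact ⟨φ j w, (hφ j).2.2.1 ⟨w, rfl⟩, (Scheme.Hom.comp_apply _ _ _).symm⟩
    obtain ⟨x₀, ⟨w₀, hw₀⟩, hne⟩ : ∃ x₀ ∈ Set.range (φ j₀ ≫ e), x₀ ≠ f (β i) := by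
      by_contra hno
      push Not at hno
      refine hj₀.ne' ?_
      rw [pdeg_comp]
      exact pdeg_const k (Groth.Agent.S10829.result k 1) _ (ι (f (β i))) (fun w => by
        rw [← Category.assoc, Scheme.Hom.comp_apply, hno _ ⟨w, rfl⟩]) hO1.1
    obtain ⟨j, hpj, hnc⟩ := exists_mem_curve (hW.image e e.continuous.continuousOn) (fun j => Set.range (φ j ≫ e)) hR hRW
      (fun x hx => by
        obtain ⟨w, hw, rfl⟩ := hx
        obtain ⟨j, v, rfl⟩ := hcov w hw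
        exact ⟨j, v, Scheme.Hom.comp_apply _ _ _⟩)
      (f (β i)) (hfc _ (hβ i)) ⟨_, hit, hσval i t⟩ (j₀ := j₀) ⟨w₀, hw₀⟩ hne
    refine ⟨φ j ≫ e, hover j, hnc, ⟨β i, hβ i, hpj⟩, ?_⟩
    have hb := (hφ j).2.2.2
    rw [pdeg_comp, pdeg_congr k (Category.assoc (φ j) e ι).symm] at hb
    exact hb
  exfalso
  obtain ⟨M₀, hM₀, hnef₀, hle, E, hEf, hEc, hEdeg⟩ := seq_bound k hY (N := 2 * d) (by linarith) B.card hg oP oS rfl hP2
    (pullback.snd (C ↘ Sk) (Y ↘ Sk)) (by exact pullback.condition.symm) σ hσsec hdisj M hM hnef hgood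
  -- horizontal degree
  have hEy : ((pullback.snd (C ↘ Sk) (Y ↘ Sk)) '' E).Finite := hEf.image _
  have hEyc : ∀ x ∈ (pullback.snd (C ↘ Sk) (Y ↘ Sk)) '' E, IsClosed ({x} : Set Y) := by
    rintro _ ⟨z, hz, rfl⟩
    have := (pullback.snd (C ↘ Sk) (Y ↘ Sk)).isClosedMap _ (hEc z hz)
    rwa [Set.image_singleton] at this
  obtain ⟨y, hy, hyU, hyE⟩ := exists_point_avoiding k hY hEy hEyc U₁ hU₁
  have hτy : τh ⟨y, hy⟩ ≫ g = hsl k y hy := hτh _
  have hdh : pdeg k (hsl k y hy) M₀ = d := by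
    rw [← hτy, hEdeg C hC _ fun x h => hyE ⟨_, h, by
      rw [← Scheme.Hom.comp_apply (τh ⟨y, hy⟩) g, hτy, ← Scheme.Hom.comp_apply, pullback.lift_snd,
        Scheme.Hom.comp_apply, hkey y hy]⟩, pdeg_comp]
    have hr : Set.range (τh ⟨y, hy⟩ ≫ g) ⊆ Set.range U.ι := by
      rw [Scheme.Opens.range_ι, hτy]
      rintro _ ⟨x, rfl⟩
      show (pullback.snd (C ↘ Sk) (Y ↘ Sk)) _ ∈ U₁
      rw [← Scheme.Hom.comp_apply, pullback.lift_snd, Scheme.Hom.comp_apply, hkey y hy]; exact hyU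
    let m := IsOpenImmersion.lift U.ι (τh ⟨y, hy⟩ ≫ g) hr
    have hm : m ≫ U.ι = hsl k y hy := (IsOpenImmersion.lift_fac _ _ _).trans hτy
    have hyr : Set.range y ⊆ Set.range jY := by
      rintro _ ⟨z, rfl⟩
      rw [hkey y hy]; exact hyU
    let t := IsOpenImmersion.lift jY y hyr ≫ jT
    have ht : t ≫ (T ↘ Sk) = 𝟙 _ := by rw [Category.assoc, hjover, IsOpenImmersion.lift_fac_assoc, hy]
    have hm₁ : (m ≫ lam) ≫ pullback.fst _ _ = 𝟙 C := by
      rw [Category.assoc, hlam₁, reassoc_of% hm, pullback.lift_fst]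
    have hm₂ : (m ≫ lam) ≫ pullback.snd _ _ = (C ↘ Sk) ≫ t := by
      have h1 : m ≫ l = (C ↘ Sk) ≫ IsOpenImmersion.lift jY y hyr := by
        rw [← cancel_mono jY, Category.assoc, hl, reassoc_of% hm, pullback.lift_snd, Category.assoc,
          IsOpenImmersion.lift_fac]
      rw [Category.assoc, pullback.lift_snd, reassoc_of% h1]
    have h2 := pdeg_slice_eq k (IsPullback.of_hasPullback (C ↘ Sk) (T ↘ Sk)) (M := O1)
      (PicLoc.isInvertible_pullback _ hO1.1) t t₀ ht ht₀ (m ≫ lam) s hm₁ hm₂ hs₁ hs₂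
    rw [pdeg_comp, pdeg_comp] at h2
    rw [pdeg_congr k (show τh ⟨y, hy⟩ ≫ e ≫ ι = (m ≫ lam) ≫ F ≫ ι by
      rw [← Category.assoc, hval _ hr]; simp [m]), h2, pdeg_congr k (show s ≫ F ≫ ι = f ≫ ι by rw [hf, Category.assoc])]
  -- vertical degree
  have hEx : ((pullback.fst (C ↘ Sk) (Y ↘ Sk)) '' E).Finite := hEf.image _
  have hExc : ∀ x ∈ (pullback.fst (C ↘ Sk) (Y ↘ Sk)) '' E, IsClosed ({x} : Set C) := by
    rintro _ ⟨z, hz, rfl⟩
    have := (pullback.fst (C ↘ Sk) (Y ↘ Sk)).isClosedMap _ (hEc z hz)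
    rwa [Set.image_singleton] at this
  obtain ⟨c, hcE, hcnc⟩ : ∃ c : {c : Sk ⟶ C // c ≫ (C ↘ Sk) = 𝟙 _},
      c.1 cl ∉ (pullback.fst (C ↘ Sk) (Y ↘ Sk)) '' E ∧ ∀ x : X, ¬ Set.range (τv c ≫ e) ⊆ {x} := by
    by_contra hno
    push Not at hno
    refine hnontriv ?_
    have hEcl : IsClosed ((pullback.fst (C ↘ Sk) (Y ↘ Sk)) '' E) := by
      rw [← Set.biUnion_of_singleton (_ '' E)]
      exact hEx.isClosed_biUnion hExc
    haveI : IsLocallyNoetherian T := LocallyOfFiniteType.isLocallyNoetherian (T ↘ Sk)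
    let Co : Over Sk := Over.mk (C ↘ Sk)
    haveI : IsIntegral Co.left := hCi
    haveI : IsProper Co.hom := hCp
    haveI : Smooth Co.hom := hCs
    haveI : GeometricallyIntegral (C ↘ Sk) := AbExt.geometricallyIntegral_of_integral (X := Co)
    haveI : IsLocallyNoetherian (pullback (C ↘ Sk) (T ↘ Sk)) :=
      LocallyOfFiniteType.isLocallyNoetherian (pullback.snd (C ↘ Sk) (T ↘ Sk) ≫ (T ↘ Sk))
    haveI : IsIntegral (pullback (C ↘ Sk) (T ↘ Sk)) :=
      GeometricallyIntegral.isIntegral_of_isLocallyNoetherian (pullback.snd (C ↘ Sk) (T ↘ Sk))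
    -- a slice over the open part
    have hy₁r : Set.range y₁ ⊆ Set.range jY := by
      rintro _ ⟨z, rfl⟩
      rw [hkey y₁ hy₁]; exact hy₁U
    let u₁ := IsOpenImmersion.lift jY y₁ hy₁r
    let t₁ := u₁ ≫ jT
    have ht₁ : t₁ ≫ (T ↘ Sk) = 𝟙 _ := by rw [Category.assoc, hjover, IsOpenImmersion.lift_fac_assoc, hy₁]
    let s₁ : C ⟶ pullback (C ↘ Sk) (T ↘ Sk) := pullback.lift (𝟙 C) ((C ↘ Sk) ≫ t₁)
      (by rw [Category.id_comp, Category.assoc, ht₁, Category.comp_id])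
    refine ⟨s₁ ≫ F, ?_⟩
    let D : (pullback (C ↘ Sk) (T ↘ Sk)).Opens :=
      (pullback.fst (C ↘ Sk) (T ↘ Sk)) ⁻¹ᵁ ⟨_, hEcl.isOpen_compl⟩ ⊓ (pullback.snd (C ↘ Sk) (T ↘ Sk)) ⁻¹ᵁ jT.opensRange
    have hD : (D : Set ↥(pullback (C ↘ Sk) (T ↘ Sk))).Nonempty := by
      obtain ⟨c', hc', -, hc'E⟩ := exists_point_avoiding k hC hEx hExc ⊤ Set.univ_nonempty
      refine ⟨(c' ≫ s₁) cl, ?_, ?_⟩
      · show (pullback.fst (C ↘ Sk) (T ↘ Sk)) _ ∉ _
        rw [← Scheme.Hom.comp_apply, Category.assoc, pullback.lift_fst, Category.comp_id]; exact hc'E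
      · show (pullback.snd (C ↘ Sk) (T ↘ Sk)) _ ∈ jT.opensRange
        rw [← Scheme.Hom.comp_apply, Category.assoc, pullback.lift_snd, ← Category.assoc, hc', Category.id_comp]
        exact ⟨u₁ cl, (Scheme.Hom.comp_apply _ _ _).symm⟩
    haveI : LocallyOfFiniteType (F ≫ (X ↘ Sk)) := by rw [hF]; infer_instance
    refine ext_of_apply_eq (X ↘ Sk) (D : Set _) D.2.isLocallyClosed (D.2.dense hD) (fun w hw hwc => ?_)
      (by rw [Category.assoc, Category.assoc, hF, reassoc_of% (pullback.lift_fst _ _ _ : s₁ ≫ pullback.fst _ _ = 𝟙 C)])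
    let z := pointOfClosedPoint (pullback.fst (C ↘ Sk) (T ↘ Sk) ≫ (C ↘ Sk)) w hwc
    have hz := pointOfClosedPoint_comp (pullback.fst (C ↘ Sk) (T ↘ Sk) ≫ (C ↘ Sk)) w hwc
    have hzw : z cl = w := pointOfClosedPoint_apply _ _ _ cl
    obtain ⟨hwE, hwT⟩ := hw
    let c' : {c : Sk ⟶ C // c ≫ (C ↘ Sk) = 𝟙 _} := ⟨z ≫ pullback.fst _ _, by rw [Category.assoc]; exact hz⟩
    have hzsnd : (z ≫ pullback.snd (C ↘ Sk) (T ↘ Sk)) ≫ (T ↘ Sk) = 𝟙 _ := by
      rw [Category.assoc, ← pullback.condition]; exact hz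
    have hzr : Set.range (z ≫ pullback.snd (C ↘ Sk) (T ↘ Sk)) ⊆ Set.range jT := by
      rintro _ ⟨v, rfl⟩
      rw [hkey _ hzsnd, Scheme.Hom.comp_apply, hzw]; exact hwT
    let u := IsOpenImmersion.lift jT _ hzr
    -- the value along the vertical slice
    have hslice : ∀ (v : Sk ⟶ T₀), (v ≫ jT) ≫ (T ↘ Sk) = 𝟙 _ → ∀ (q : Sk ⟶ pullback (C ↘ Sk) (T ↘ Sk)),
        q ≫ pullback.fst _ _ = c'.1 → q ≫ pullback.snd _ _ = v ≫ jT →
        (q ≫ F) cl = (τv c' ≫ e) ((v ≫ jY) cl) := fun v hv q hq₁ hq₂ => by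
      have hvY : (v ≫ jY) ≫ (Y ↘ Sk) = 𝟙 _ := by rw [Category.assoc, ← hjover, ← Category.assoc, hv]
      have hr : Set.range (((v ≫ jY) ≫ τv c') ≫ g) ⊆ Set.range U.ι := by
        rw [Category.assoc _ _ g, hτv, Scheme.Opens.range_ι]
        rintro _ ⟨x, rfl⟩
        show (pullback.snd (C ↘ Sk) (Y ↘ Sk)) _ ∈ U₁
        rw [← Scheme.Hom.comp_apply, Category.assoc, pullback.lift_snd, Category.comp_id]
        exact ⟨v x, (Scheme.Hom.comp_apply _ _ _).symm⟩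
      let m := IsOpenImmersion.lift U.ι (((v ≫ jY) ≫ τv c') ≫ g) hr
      have hm : m ≫ U.ι = (v ≫ jY) ≫ vsl k c'.1 c'.2 :=
        (IsOpenImmersion.lift_fac _ _ _).trans (by rw [Category.assoc _ _ g, hτv])
      have hmq : m ≫ lam = q := by
        refine pullback.hom_ext ?_ ?_
        · rw [Category.assoc, hlam₁, reassoc_of% hm, pullback.lift_fst]
          have h3 : v ≫ jY ≫ (Y ↘ Sk) = 𝟙 _ := by rw [← Category.assoc]; exact hvY
          rw [reassoc_of% h3]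
          exact hq₁.symm
        · have h1 : m ≫ l = v := by
            rw [← cancel_mono jY, Category.assoc, hl, reassoc_of% hm, pullback.lift_snd, Category.comp_id]
          rw [Category.assoc, pullback.lift_snd, reassoc_of% h1, hq₂]
      rw [← Scheme.Hom.comp_apply, ← Category.assoc, hval _ hr, ← Category.assoc]
      exact congrArg (fun q => (q ≫ F) cl) hmq.symm
    obtain ⟨x, hx⟩ := hno c' (by rw [Scheme.Hom.comp_apply, hzw]; exact hwE)
    have h1 := hslice u (by rw [IsOpenImmersion.lift_fac]; exact hzsnd) z rfl (IsOpenImmersion.lift_fac _ _ _).symm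
    have h2 := hslice u₁ ht₁ (c'.1 ≫ s₁) (by rw [Category.assoc, pullback.lift_fst, Category.comp_id])
      (by rw [Category.assoc, pullback.lift_snd, ← Category.assoc, c'.2, Category.id_comp])
    rw [hx ⟨_, rfl⟩] at h1 h2
    calc F w = (z ≫ F) cl := by rw [Scheme.Hom.comp_apply, hzw]
      _ = x := h1
      _ = ((c'.1 ≫ s₁) ≫ F) cl := h2.symm
      _ = _ := by
        simp only [c', Scheme.Hom.comp_apply, hzw]
  have hτc : τv c ≫ g = vsl k c.1 c.2 := hτv c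
  have hav : 0 < pdeg k (vsl k c.1 c.2) M₀ := by
    rw [← hτc, hEdeg Y hY _ fun x h => hcE ⟨_, h, by
      rw [← Scheme.Hom.comp_apply (τv c) g, hτc, ← Scheme.Hom.comp_apply, pullback.lift_fst,
        Scheme.Hom.comp_apply, hkey c.1 c.2]⟩, pdeg_comp]
    refine pdeg_pos_of_ample k hYd (τv c ≫ e ≫ ι) ?_ hO1 fun x hx => ?_
    · rw [Category.assoc, heι]
      show τv c ≫ g ≫ pullback.fst _ _ ≫ _ = _
      rw [reassoc_of% hτc, pullback.lift_fst_assoc, Category.assoc, c.2, Category.comp_id]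
    · obtain ⟨x', hx'⟩ : ∃ x', (τv c ≫ e) (genericPoint Y) = x' := ⟨_, rfl⟩
      refine hcnc x' ?_
      rintro _ ⟨v, rfl⟩
      refine ι.isClosedEmbedding.injective ?_
      rw [← hx', ← Scheme.Hom.comp_apply, ← Scheme.Hom.comp_apply, Category.assoc]
      exact (hx ⟨v, rfl⟩).trans (hx ⟨_, rfl⟩).symm
  have hsum : ∀ i, pdeg k (σ i ≫ g) M₀ = pdeg k (vsl k c.1 c.2) M₀ := fun i => by
    rw [pdeg_congr k (show σ i ≫ g = vsl k (pb i).1 (pb i).2 from hτv _)]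
    exact pdeg_slice_eq k (IsPullback.of_hasPullback (C ↘ Sk) (Y ↘ Sk)).flip hM₀ (pb i).1 c.1 (pb i).2 c.2 _ _
      (pullback.lift_snd _ _ _) (pullback.lift_fst _ _ _) (pullback.lift_snd _ _ _) (pullback.lift_fst _ _ _)
  obtain ⟨HC, hHC⟩ := W7Slope.exists_ample (k := k) hCd (W7Slope.regCurve_of_smooth (k := k) hCd)
  obtain ⟨HY, hHY⟩ := W7Slope.exists_ample (k := k) hYd (W7Slope.regCurve_of_smooth (k := k) hYd)
  have hHodge := inter_self_le k hC hY hHC hHY hM₀ c.1 c.2 y hy hav.le (hdh ▸ hd0)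
  rw [hdh] at hHodge
  simp only [hsum, hσM, Finset.sum_const, Finset.card_univ, Fintype.card_fin, nsmul_eq_mul] at hle
  push_cast at hle
  have hpos : (0 : ℚ) < (B.card : ℚ) * (pdeg k (vsl k c.1 c.2) M₀ : ℚ) :=
    mul_pos (by exact_mod_cast hB.card_pos) (by exact_mod_cast hav)
  have hd0' : (0 : ℚ) ≤ (d : ℚ) := by exact_mod_cast hd0
  nlinarith [mul_le_mul_of_nonneg_left hHodge (Nat.cast_nonneg B.card : (0 : ℚ) ≤ B.card),
    mul_nonneg (Nat.cast_nonneg B.card : (0 : ℚ) ≤ B.card) hMM]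

end Groth.Agent.BreakDeg
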