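import Groth.Agent.BreakDeg.Seq
import Groth.Agent.BendBreak.Main
import Groth.Agent.Nakai.AlgEquiv
import Groth.Agent.Nakai.HodgeIndex
import Groth.Agent.Nakai.HodgeNef
import Groth.Agent.Intersect.CurveOnSurface
import Groth.Agent.BettiNN.Basic
import Groth.Agent.AbExt.Product
import Groth.Agent.TMul.RelAmple
import Groth.Agent.SectRank.RelDim
import Groth.Agent.SectRank.DimOfRelDim
import Groth.Prelude.Def_Curve
import Mathlib

/-!
# Self-intersection on a product of two curves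
-/

set_option autoImplicit false
set_option linter.style.haveILetI false
set_option linter.unusedSectionVars false
set_option backward.isDefEq.respectTransparency false
set_option backward.isDefEq.respectTransparency.types false
set_option synthInstance.maxHeartbeats 400000
set_option maxHeartbeats 1000000

universe u

open CategoryTheory CategoryTheory.Limits AlgebraicGeometry TopologicalSpace

noncomputable section

namespace Groth.Agent.BreakDeg

variable (k : Type u) [Field k] {D : Scheme.{u}} [D.Over (Spec (CommRingCat.of k))]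
  [IsProper (D ↘ Spec (CommRingCat.of k))]

/-- Euler characteristics of an invertible module on the slices of a product with connected parameter scheme. -/
theorem euler_fibreMod_eq {T : Scheme.{u}} {q : T ⟶ Spec (CommRingCat.of k)} [PreconnectedSpace T]
    [LocallyOfFiniteType q] {M : (Pic13.prodK k D q).Modules} (hM : PicF.IsInvertible M)
    (t t' : Spec (CommRingCat.of k) ⟶ T) (ht : t ≫ q = 𝟙 _) (ht' : t' ≫ q = 𝟙 _) :
    Curv2.euler k D (Pic13.fibreMod k D q t ht M) = Curv2.euler k D (Pic13.fibreMod k D q t' ht' M) := by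
  haveI := CurveRR.isNoetherian_of_proper k D
  haveI : IsLocallyNoetherian T := LocallyOfFiniteType.isLocallyNoetherian q
  let p := pullback.fst (D ↘ Spec (CommRingCat.of k)) q
  let f := pullback.snd (D ↘ Spec (CommRingCat.of k)) q
  haveI : IsLocallyNoetherian (Pic13.prodK k D q) := LocallyOfFiniteType.isLocallyNoetherian f
  let F := Coh.structureModule D
  have hF : Coh.IsCoh F := RefStalk.isCoh_structureModule
  let G := CohB1.tensorMod M ((Scheme.Modules.pullback p).obj F)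
  have hG : Coh.IsCoh G := CurveRR.isCoh_tensor' (CurveRR.isCoh_of_inv hM) (Groth.Agent.QC.isCoh_pullback p hF)
  have hfl : FlatMod.IsFlatOver f G := fun z => Nakai.flatOver_tensor f (Nakai.isFlatAt_invertible hM z)
    (Groth.Agent.FlatModBC.isFlatOverAt_baseChange (IsPullback.of_hasPullback (D ↘ Spec (CommRingCat.of k)) q) F z
      (Nakai.isFlatOver_field k F _))
  let x : ↑(Spec (CommRingCat.of k)) := (⊥ : PrimeSpectrum k)
  have key : ∀ (τ : Spec (CommRingCat.of k) ⟶ T) (hτ : τ ≫ q = 𝟙 _),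
      PerfAux.eulerChar f G (τ.base x) = Curv2.euler k D (Pic13.fibreMod k D q τ hτ M) := fun τ hτ => by
    rw [Nakai.eulerChar_fibreMod k τ hτ x hG.1]
    obtain ⟨a⟩ := TMul.nonempty_pullTensorIso (Pic13.sliceAt k D q τ hτ) M ((Scheme.Modules.pullback p).obj F)
    exact CurveRR.euler_eq_of_iso (a.symm ≪≫ PicGrp.tensorModIso (Iso.refl _)
      ((Scheme.Modules.pullbackComp _ p).app F ≪≫ DerPerf.pullUnitIso _) ≪≫
      TMul.commIso _ _ ≪≫ TMul.leftUnitIso _)
  rw [← key t ht, ← key t' ht']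
  exact (Groth.Agent.BettiNN.isLocallyConstant_eulerChar f
    (by haveI := hG.1; exact Groth.Agent.QC.isFP_of_isQCoh_of_isFT hG.2) hfl).apply_eq_of_preconnectedSpace _ _

/-- Degrees on the slices of a fibre product do not depend on the slice. -/
theorem pdeg_slice_eq {T P : Scheme.{u}} {q : T ⟶ Spec (CommRingCat.of k)} [PreconnectedSpace T]
    [LocallyOfFiniteType q] {pD : P ⟶ D} {pT : P ⟶ T}
    (sq : IsPullback pD pT (D ↘ Spec (CommRingCat.of k)) q) {M : P.Modules} (hM : PicF.IsInvertible M)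
    (t t' : Spec (CommRingCat.of k) ⟶ T) (ht : t ≫ q = 𝟙 _) (ht' : t' ≫ q = 𝟙 _) (i i' : D ⟶ P)
    (hi₁ : i ≫ pD = 𝟙 D) (hi₂ : i ≫ pT = (D ↘ Spec (CommRingCat.of k)) ≫ t)
    (hi'₁ : i' ≫ pD = 𝟙 D) (hi'₂ : i' ≫ pT = (D ↘ Spec (CommRingCat.of k)) ≫ t') :
    pdeg k i M = pdeg k i' M := by
  let N := (Scheme.Modules.pullback sq.isoPullback.inv).obj M
  have key : ∀ (τ : Spec (CommRingCat.of k) ⟶ T) (hτ : τ ≫ q = 𝟙 _) (j : D ⟶ P), j ≫ pD = 𝟙 D →
      j ≫ pT = (D ↘ Spec (CommRingCat.of k)) ≫ τ →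
      pdeg k j M = Curv2.deg k D (Pic13.fibreMod k D q τ hτ N) 1 := fun τ hτ j h1 h2 => by
    have hj : j = Pic13.sliceAt k D q τ hτ ≫ sq.isoPullback.inv := sq.hom_ext
      (by rw [Category.assoc, IsPullback.isoPullback_inv_fst, Pic13.sliceAt, pullback.lift_fst, h1])
      (by rw [Category.assoc, IsPullback.isoPullback_inv_snd, Pic13.sliceAt, pullback.lift_snd, h2])
    subst hj
    exact (pdeg_comp k _ _ M).symm
  rw [key t ht i hi₁ hi₂, key t' ht' i' hi'₁ hi'₂, Curv2.deg, Curv2.deg,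
    euler_fibreMod_eq k (PicLoc.isInvertible_pullback _ hM) t t' ht ht']

/-- Intersecting with the ideal of a curve is minus the degree on it. -/
theorem inter_curve {X : Scheme.{u}} [X.Over (Spec (CommRingCat.of k))] [IsProper (X ↘ Spec (CommRingCat.of k))]
    (hX : topologicalKrullDim X ≤ ((2 : ℕ) : WithBot ℕ∞)) (i : D ⟶ X) [IsClosedImmersion i]
    (hi : i ≫ (X ↘ Spec (CommRingCat.of k)) = D ↘ Spec (CommRingCat.of k))
    (hD : topologicalKrullDim D ≤ ((1 : ℕ) : WithBot ℕ∞)) (hc : BlowUp.IsEffCartierIdeal i.ker)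
    {L : X.Modules} (hL : PicF.IsInvertible L) :
    Nakai.inter k L (ClSub.idealMod i.ker) = -(pdeg k i L : ℚ) := by
  obtain ⟨L', hL', hLL'⟩ := W7Hull.exists_tensor_inverse hL
  have hI : PicF.IsInvertible (ClSub.idealMod i.ker) := (Groth.Agent.S8914.result _).2 hc
  have h : Nakai.inter k (ClSub.idealMod i.ker) L' = (pdeg k i L : ℚ) := by
    rename_i iD _ _ _ _
    obtain ⟨hD'⟩ := iD
    obtain rfl : i ≫ (X ↘ Spec (CommRingCat.of k)) = hD' := hi
    rw [← Nakai.intNum_eq_inter k hX, Intersect.intNum_curve k i hD hX hc hL hLL']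
  rw [Nakai.inter_inv_right k hX hL hLL' hI, Nakai.inter_comm k (ClSub.idealMod i.ker)] at h
  linarith

variable [IsAlgClosed k]

theorem exists_point_avoiding {Y : Scheme.{u}} [Y.Over (Spec (CommRingCat.of k))]
    (hY : Curve.IsSmoothProperCurve k Y (Y ↘ Spec (CommRingCat.of k))) {E : Set Y} (hE : E.Finite)
    (hEc : ∀ x ∈ E, IsClosed ({x} : Set Y)) (U : Y.Opens) (hU : (U : Set Y).Nonempty) :
    ∃ y : Spec (CommRingCat.of k) ⟶ Y, y ≫ (Y ↘ Spec (CommRingCat.of k)) = 𝟙 _ ∧
      y (IsLocalRing.closedPoint k) ∈ U ∧ y (IsLocalRing.closedPoint k) ∉ E := by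
  obtain ⟨hp, hs, hint, hd⟩ := hY
  haveI := hp
  haveI := hint
  haveI : JacobsonSpace Y := LocallyOfFiniteType.jacobsonSpace (Y ↘ Spec (CommRingCat.of k))
  have hEcl : IsClosed E := by
    rw [← Set.biUnion_of_singleton E]
    exact hE.isClosed_biUnion hEc
  have hne : ((U : Set Y) ∩ Eᶜ).Nonempty := ⟨genericPoint Y,
    ((genericPoint_spec Y).mem_open_set_iff U.2).2 (by simpa using hU),
    fun h => CurveRR.genericPoint_ne_of_closed (k := k) hd (hEc _ h) rfl⟩
  obtain ⟨x, ⟨hxU, hxE⟩, hxc⟩ := nonempty_inter_closedPoints hne (U.2.inter hEcl.isOpen_compl).isLocallyClosed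
  refine ⟨pointOfClosedPoint (Y ↘ Spec (CommRingCat.of k)) x hxc, pointOfClosedPoint_comp _ x hxc, ?_⟩
  rw [pointOfClosedPoint_apply _ x hxc]
  exact ⟨hxU, hxE⟩

variable {C Y : Scheme.{u}} [C.Over (Spec (CommRingCat.of k))] [Y.Over (Spec (CommRingCat.of k))]

/-- the horizontal slice -/
abbrev hsl (y : Spec (CommRingCat.of k) ⟶ Y) (hy : y ≫ (Y ↘ Spec (CommRingCat.of k)) = 𝟙 _) :
    C ⟶ pullback (C ↘ Spec (CommRingCat.of k)) (Y ↘ Spec (CommRingCat.of k)) :=
  pullback.lift (𝟙 C) ((C ↘ Spec (CommRingCat.of k)) ≫ y)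
    (by rw [Category.id_comp, Category.assoc, hy, Category.comp_id])

/-- the vertical slice -/
abbrev vsl (c : Spec (CommRingCat.of k) ⟶ C) (hc : c ≫ (C ↘ Spec (CommRingCat.of k)) = 𝟙 _) :
    Y ⟶ pullback (C ↘ Spec (CommRingCat.of k)) (Y ↘ Spec (CommRingCat.of k)) :=
  pullback.lift ((Y ↘ Spec (CommRingCat.of k)) ≫ c) (𝟙 Y)
    (by rw [Category.id_comp, Category.assoc, hc, Category.comp_id])

variable (hC : Curve.IsSmoothProperCurve k C (C ↘ Spec (CommRingCat.of k)))
  (hY : Curve.IsSmoothProperCurve k Y (Y ↘ Spec (CommRingCat.of k)))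

include hC hY

/-- the product surface -/
theorem surf_prod :
    letI : (pullback (C ↘ Spec (CommRingCat.of k)) (Y ↘ Spec (CommRingCat.of k))).Over (Spec (CommRingCat.of k)) :=
      ⟨pullback.fst _ _ ≫ (C ↘ Spec (CommRingCat.of k))⟩
    IsIntegral (pullback (C ↘ Spec (CommRingCat.of k)) (Y ↘ Spec (CommRingCat.of k))) ∧
      IsProper (pullback.fst (C ↘ Spec (CommRingCat.of k)) (Y ↘ Spec (CommRingCat.of k)) ≫ (C ↘ Spec (CommRingCat.of k))) ∧
      Smooth (pullback.fst (C ↘ Spec (CommRingCat.of k)) (Y ↘ Spec (CommRingCat.of k)) ≫ (C ↘ Spec (CommRingCat.of k))) ∧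
      topologicalKrullDim ↑(pullback (C ↘ Spec (CommRingCat.of k)) (Y ↘ Spec (CommRingCat.of k))) = 2 := by
  obtain ⟨hCp, hCs, hCi, hCd⟩ := hC
  obtain ⟨hYp, hYs, hYi, hYd⟩ := hY
  let Co : Over (Spec (CommRingCat.of k)) := Over.mk (C ↘ Spec (CommRingCat.of k))
  let Yo : Over (Spec (CommRingCat.of k)) := Over.mk (Y ↘ Spec (CommRingCat.of k))
  haveI : IsProper Co.hom := hCp
  haveI : IsProper Yo.hom := hYp
  haveI : Smooth Co.hom := hCs
  haveI : Smooth Yo.hom := hYs
  haveI : IsIntegral Co.left := hCi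
  haveI : IsIntegral Yo.left := hYi
  haveI : IsIntegral (MonoidalCategoryStruct.tensorObj Co Yo).left := AbExt.isIntegral_prod Co Yo
  haveI : IsIntegral (pullback (C ↘ Spec (CommRingCat.of k)) (Y ↘ Spec (CommRingCat.of k))) :=
    inferInstanceAs (IsIntegral (MonoidalCategoryStruct.tensorObj Co Yo).left)
  haveI := hCp
  haveI := hYp
  haveI := hCs
  haveI := hYs
  refine ⟨inferInstance, inferInstance, inferInstance, ?_⟩
  haveI := SectRank.smoothOfRelativeDimension_of_dim Co.hom (n := 1) (by show topologicalKrullDim C = _; rw [hCd]; rfl)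
  haveI := SectRank.smoothOfRelativeDimension_of_dim Yo.hom (n := 1) (by show topologicalKrullDim Y = _; rw [hYd]; rfl)
  haveI : SmoothOfRelativeDimension 2
      (pullback.fst (C ↘ Spec (CommRingCat.of k)) (Y ↘ Spec (CommRingCat.of k)) ≫ (C ↘ Spec (CommRingCat.of k))) := by
    haveI : MorphismProperty.IsStableUnderBaseChange (@SmoothOfRelativeDimension 1) :=
      smoothOfRelativeDimension_isStableUnderBaseChange 1
    haveI : SmoothOfRelativeDimension 1 (pullback.fst Co.hom Yo.hom) :=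
      MorphismProperty.pullback_fst (P := @SmoothOfRelativeDimension 1) _ _ ‹_›
    exact inferInstanceAs (SmoothOfRelativeDimension (1 + 1) (pullback.fst Co.hom Yo.hom ≫ Co.hom))
  exact (SectRank.topologicalKrullDim_of_smoothOfRelativeDimension
    (pullback.fst (C ↘ Spec (CommRingCat.of k)) (Y ↘ Spec (CommRingCat.of k)) ≫ (C ↘ Spec (CommRingCat.of k))) 2).trans rfl

/-- Hodge index on a product of curves, in terms of the two slice degrees. -/
theorem inter_self_le {HC : C.Modules} (hHC : CohB1.IsAmple HC) {HY : Y.Modules} (hHY : CohB1.IsAmple HY)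
    {M : (pullback (C ↘ Spec (CommRingCat.of k)) (Y ↘ Spec (CommRingCat.of k))).Modules} (hM : PicF.IsInvertible M)
    (c : Spec (CommRingCat.of k) ⟶ C) (hc : c ≫ (C ↘ Spec (CommRingCat.of k)) = 𝟙 _)
    (y : Spec (CommRingCat.of k) ⟶ Y) (hy : y ≫ (Y ↘ Spec (CommRingCat.of k)) = 𝟙 _)
    (ha : 0 ≤ (haveI := hY.1; pdeg k (vsl k c hc) M)) (hd : 0 ≤ (haveI := hC.1; pdeg k (hsl k y hy) M)) :
    letI : (pullback (C ↘ Spec (CommRingCat.of k)) (Y ↘ Spec (CommRingCat.of k))).Over (Spec (CommRingCat.of k)) :=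
      ⟨pullback.fst _ _ ≫ (C ↘ Spec (CommRingCat.of k))⟩
    haveI := hC.1
    haveI := hY.1
    Nakai.inter k M M ≤ 2 * (pdeg k (vsl k c hc) M : ℚ) * (pdeg k (hsl k y hy) M : ℚ) := by
  obtain ⟨hint, hprop, hsm, hdim⟩ := surf_prod k hC hY
  obtain ⟨hCp, hCs, hCi, hCd⟩ := id hC
  obtain ⟨hYp, hYs, hYi, hYd⟩ := id hY
  haveI := hCp; haveI := hCs; haveI := hCi; haveI := hYp; haveI := hYs; haveI := hYi; haveI := hint
  letI : (pullback (C ↘ Spec (CommRingCat.of k)) (Y ↘ Spec (CommRingCat.of k))).Over (Spec (CommRingCat.of k)) :=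
    ⟨pullback.fst _ _ ≫ (C ↘ Spec (CommRingCat.of k))⟩
  let P := pullback (C ↘ Spec (CommRingCat.of k)) (Y ↘ Spec (CommRingCat.of k))
  haveI : IsProper (P ↘ Spec (CommRingCat.of k)) := hprop
  haveI : Smooth (P ↘ Spec (CommRingCat.of k)) := hsm
  haveI : IsClosedImmersion (hsl k y hy : C ⟶ P) := by
    haveI : IsClosedImmersion ((hsl k y hy : C ⟶ P) ≫ pullback.fst _ _) := by rw [pullback.lift_fst]; infer_instance
    exact IsClosedImmersion.of_comp _ (pullback.fst _ _)
  haveI : IsClosedImmersion (vsl k c hc : Y ⟶ P) := by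
    haveI : IsClosedImmersion ((vsl k c hc : Y ⟶ P) ≫ pullback.snd _ _) := by rw [pullback.lift_snd]; infer_instance
    exact IsClosedImmersion.of_comp _ (pullback.snd _ _)
  have hh : (hsl k y hy : C ⟶ P) ≫ (P ↘ Spec (CommRingCat.of k)) = C ↘ Spec (CommRingCat.of k) := by
    show hsl k y hy ≫ pullback.fst _ _ ≫ _ = _
    rw [pullback.lift_fst_assoc, Category.id_comp]
  have hv : (vsl k c hc : Y ⟶ P) ≫ (P ↘ Spec (CommRingCat.of k)) = Y ↘ Spec (CommRingCat.of k) := by
    show vsl k c hc ≫ pullback.fst _ _ ≫ _ = _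
    rw [pullback.lift_fst_assoc, Category.assoc, hc, Category.comp_id]
  have hAc : BlowUp.IsEffCartierIdeal (hsl k y hy : C ⟶ P).ker := Intersect.isEffCartier_curve k hdim _ hCd
  have hBc : BlowUp.IsEffCartierIdeal (vsl k c hc : Y ⟶ P).ker := Intersect.isEffCartier_curve k hdim _ hYd
  let A := ClSub.idealMod (hsl k y hy : C ⟶ P).ker
  let B := ClSub.idealMod (vsl k c hc : Y ⟶ P).ker
  have hA : PicF.IsInvertible A := (Groth.Agent.S8914.result _).2 hAc
  have hB : PicF.IsInvertible B := (Groth.Agent.S8914.result _).2 hBc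
  have hCreg := WeilExt.regular_of_smooth (WeilExt.regular_spec (R := k)) (C ↘ Spec (CommRingCat.of k))
  have hYreg := WeilExt.regular_of_smooth (WeilExt.regular_spec (R := k)) (Y ↘ Spec (CommRingCat.of k))
  -- the self-intersections of the slices vanish
  have hfst : ∀ (y : Spec (CommRingCat.of k) ⟶ Y) hy (x : C),
      (pullback.snd (C ↘ Spec (CommRingCat.of k)) (Y ↘ Spec (CommRingCat.of k))) ((hsl k y hy : C ⟶ P) x) =
      y (IsLocalRing.closedPoint k) := fun y hy x => by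
    rw [← Scheme.Hom.comp_apply, pullback.lift_snd, Scheme.Hom.comp_apply]
    exact congrArg y (Subsingleton.elim (α := PrimeSpectrum k) _ _)
  have hsnd : ∀ (c : Spec (CommRingCat.of k) ⟶ C) hc (x : Y),
      (pullback.fst (C ↘ Spec (CommRingCat.of k)) (Y ↘ Spec (CommRingCat.of k))) ((vsl k c hc : Y ⟶ P) x) =
      c (IsLocalRing.closedPoint k) := fun c hc x => by
    rw [← Scheme.Hom.comp_apply, pullback.lift_fst, Scheme.Hom.comp_apply]
    exact congrArg c (Subsingleton.elim (α := PrimeSpectrum k) _ _)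
  have hAA : pdeg k (hsl k y hy : C ⟶ P) A = 0 := by
    obtain ⟨y', hy', -, hne⟩ := exists_point_avoiding k hY (Set.finite_singleton (y (IsLocalRing.closedPoint k)))
      (by rintro _ rfl; exact ((pointEquivClosedPoint (Y ↘ Spec (CommRingCat.of k))) ⟨y, hy⟩).2) ⊤ Set.univ_nonempty
    rw [pdeg_slice_eq k (IsPullback.of_hasPullback _ _) hA y y' hy hy' _ (hsl k y' hy') (pullback.lift_fst _ _ _)
      (pullback.lift_snd _ _ _) (pullback.lift_fst _ _ _) (pullback.lift_snd _ _ _)]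
    refine pdeg_idealMod_zero k hCd hCreg _ hAc fun x hx => hne ?_
    rw [← SetLike.mem_coe, Scheme.Hom.support_ker, (hsl k y hy : C ⟶ P).isClosedEmbedding.isClosed_range.closure_eq] at hx
    obtain ⟨x', hx'⟩ := hx
    rw [Set.mem_singleton_iff, ← hfst y' hy' x, ← hx', hfst]
  have hBB : pdeg k (vsl k c hc : Y ⟶ P) B = 0 := by
    obtain ⟨c', hc', -, hne⟩ := exists_point_avoiding k hC (Set.finite_singleton (c (IsLocalRing.closedPoint k)))
      (by rintro _ rfl; exact ((pointEquivClosedPoint (C ↘ Spec (CommRingCat.of k))) ⟨c, hc⟩).2) ⊤ Set.univ_nonempty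
    rw [pdeg_slice_eq k (IsPullback.of_hasPullback _ _).flip hB c c' hc hc' _ (vsl k c' hc') (pullback.lift_snd _ _ _)
      (pullback.lift_fst _ _ _) (pullback.lift_snd _ _ _) (pullback.lift_fst _ _ _)]
    refine pdeg_idealMod_zero k hYd hYreg _ hBc fun x hx => hne ?_
    rw [← SetLike.mem_coe, Scheme.Hom.support_ker, (vsl k c hc : Y ⟶ P).isClosedEmbedding.isClosed_range.closure_eq] at hx
    obtain ⟨x', hx'⟩ := hx
    rw [Set.mem_singleton_iff, ← hsnd c' hc' x, ← hx', hsnd]
  -- the slices meet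
  have hAB : pdeg k (hsl k y hy : C ⟶ P) B ≤ -1 := by
    have hmeet : (hsl k y hy : C ⟶ P) (c (IsLocalRing.closedPoint k)) ∈ (vsl k c hc : Y ⟶ P).ker.support := by
      rw [← SetLike.mem_coe, Scheme.Hom.support_ker]
      refine subset_closure ⟨y (IsLocalRing.closedPoint k), ?_⟩
      have e : y ≫ (vsl k c hc : Y ⟶ P) = c ≫ hsl k y hy := by
        refine pullback.hom_ext ?_ ?_
        · rw [Category.assoc, pullback.lift_fst, ← Category.assoc, hy, Category.id_comp, Category.assoc,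
            pullback.lift_fst, Category.comp_id]
        · rw [Category.assoc, pullback.lift_snd, Category.comp_id, Category.assoc, pullback.lift_snd,
            ← Category.assoc, hc, Category.id_comp]
      rw [← Scheme.Hom.comp_apply, e, Scheme.Hom.comp_apply]
    refine pdeg_idealMod_neg k hCd hCreg _ hBc (fun hg => ?_) hmeet
    rw [← SetLike.mem_coe, Scheme.Hom.support_ker, (vsl k c hc : Y ⟶ P).isClosedEmbedding.isClosed_range.closure_eq] at hg
    obtain ⟨x', hx'⟩ := hg
    refine CurveRR.genericPoint_ne_of_closed (k := k) hCd ((pointEquivClosedPoint (C ↘ Spec (CommRingCat.of k))) ⟨c, hc⟩).2 ?_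
    show genericPoint C = c (IsLocalRing.closedPoint k)
    rw [← hsnd c hc x', hx', ← Scheme.Hom.comp_apply, pullback.lift_fst]
    rfl
  have h2 : topologicalKrullDim P ≤ ((2 : ℕ) : WithBot ℕ∞) := hdim.le
  have iA : ∀ {L : P.Modules}, PicF.IsInvertible L → Nakai.inter k L A = -(pdeg k (hsl k y hy : C ⟶ P) L : ℚ) :=
    fun hL => inter_curve k h2 _ hh hCd.le hAc hL
  have iB : ∀ {L : P.Modules}, PicF.IsInvertible L → Nakai.inter k L B = -(pdeg k (vsl k c hc : Y ⟶ P) L : ℚ) :=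
    fun hL => inter_curve k h2 _ hv hYd.le hBc hL
  have eAA : Nakai.inter k A A = 0 := by rw [iA hA, hAA]; simp
  have eBB : Nakai.inter k B B = 0 := by rw [iB hB, hBB]; simp
  have eBA : Nakai.inter k B A = -(pdeg k (hsl k y hy : C ⟶ P) B : ℚ) := iA hB
  have hnA := iA hM
  have hnB := iB hM
  obtain ⟨m, hm⟩ : ∃ m : ℕ, pdeg k (hsl k y hy : C ⟶ P) B = -(m : ℤ) :=
    ⟨(-pdeg k (hsl k y hy : C ⟶ P) B).toNat, by omega⟩
  have hm1 : (1 : ℚ) ≤ (m : ℚ) := by exact_mod_cast (by omega : 1 ≤ m)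
  obtain ⟨a, ha'⟩ := Int.eq_ofNat_of_zero_le ha
  obtain ⟨d, hd'⟩ := Int.eq_ofNat_of_zero_le hd
  rw [hm] at eBA
  rw [hd'] at hnA
  rw [ha'] at hnB
  rw [ha', hd']
  push_cast at eBA hnA hnB ⊢
  rw [neg_neg] at eBA
  have hMp := TMul.isInvertible_tensorPow hM m
  have hAp := TMul.isInvertible_tensorPow hA a
  have hBp := TMul.isInvertible_tensorPow hB d
  have hMA := TMul.isInvertible_tensorMod hMp hAp
  let Q := CohB1.tensorMod (CohB1.tensorMod (CohB1.tensorPow M m) (CohB1.tensorPow A a)) (CohB1.tensorPow B d)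
  have hQ : PicF.IsInvertible Q := TMul.isInvertible_tensorMod hMA hBp
  have iQ : ∀ {L : P.Modules}, PicF.IsInvertible L →
      Nakai.inter k Q L = (m : ℚ) * Nakai.inter k M L + (a : ℚ) * Nakai.inter k A L + (d : ℚ) * Nakai.inter k B L :=
    fun hL => by
      rw [Nakai.inter_tensor k h2 hMA hBp hL, Nakai.inter_tensor k h2 hMp hAp hL,
        Nakai.inter_pow k h2 hM hL, Nakai.inter_pow k h2 hA hL, Nakai.inter_pow k h2 hB hL]
  have hAB' := TMul.isInvertible_tensorMod hA hB
  have cAM := Nakai.inter_comm k A M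
  have cBM := Nakai.inter_comm k B M
  have cAB := Nakai.inter_comm k A B
  have hLL : 0 < Nakai.inter k (CohB1.tensorMod A B) (CohB1.tensorMod A B) := by
    rw [Nakai.inter_tensor k h2 hA hB hAB', Nakai.inter_tensor_right k h2 hA hB hA, Nakai.inter_tensor_right k h2 hA hB hB,
      eAA, eBB, cAB, eBA]
    linarith
  have horth : Nakai.inter k (CohB1.tensorMod A B) Q = 0 := by
    rw [Nakai.inter_tensor k h2 hA hB hQ, Nakai.inter_comm k A Q, Nakai.inter_comm k B Q, iQ hA, iQ hB, hnA, hnB, eAA,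
      eBB, eBA, cAB, eBA]
    ring
  have hH := TMul.isAmple_ext_fibreProd (C ↘ Spec (CommRingCat.of k)) (Y ↘ Spec (CommRingCat.of k)) hHC hHY
  have h := Nakai.self_nonpos_of_orth k hdim hAB' hQ hH hLL horth
  rw [iQ hQ, Nakai.inter_comm k M Q, Nakai.inter_comm k A Q, Nakai.inter_comm k B Q, iQ hM, iQ hA, iQ hB,
    eAA, eBB, cAM, cBM, hnA, hnB, cAB, eBA] at h
  have had : (0 : ℚ) ≤ (a : ℚ) * d := by positivity
  have h5 : (m : ℚ) * Nakai.inter k M M - 2 * a * d ≤ 0 := by
    by_contra hc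
    push Not at hc
    have := mul_pos (lt_of_lt_of_le one_pos hm1) hc
    linarith
  by_contra hc
  push Not at hc
  have := mul_le_mul_of_nonneg_right hm1 (by linarith : (0 : ℚ) ≤ Nakai.inter k M M)
  linarith

end Groth.Agent.BreakDeg
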