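import Groth.Agent.BreakDeg.Blow
import Groth.Agent.BendBreak.Fibre
import Groth.Agent.ResolveCurve.Embedded
import Mathlib

/-!
# Fixed sections and rational curves along a sequence of point blow-ups
-/

set_option autoImplicit false
set_option linter.style.haveILetI false
set_option linter.unusedSectionVars false
set_option backward.isDefEq.respectTransparency false
set_option backward.isDefEq.respectTransparency.types false
set_option synthInstance.maxHeartbeats 400000
set_option maxHeartbeats 1000000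

universe u

open CategoryTheory CategoryTheory.Limits AlgebraicGeometry TopologicalSpace

noncomputable section

namespace Groth.Agent.BreakDeg

variable (k : Type u) [Field k] [IsAlgClosed k]

omit [IsAlgClosed k] in
theorem subsingleton_hh_of_isZero {X : Scheme.{u}} {M : X.Modules} (hM : IsZero M) (p : ℕ) :
    Subsingleton (Coh.HH X M p) := by
  refine ⟨fun x y => ?_⟩
  have h : ∀ w : Coh.HH X M p, w = 0 := fun w => by
    have h0 : (𝟙 (Coh.toAb M) : Coh.toAb M ⟶ Coh.toAb M) = 0 := by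
      have h1 : IsZero (Coh.toAb M) := Functor.map_isZero (SheafOfModules.toSheaf X.ringCatSheaf) hM
      exact h1.eq_of_src _ _
    rw [← Sheaf.H.map_id_apply (F := Coh.toAb M) w, h0]
    change ((Sheaf.functorH _ p).map (0 : Coh.toAb M ⟶ Coh.toAb M)).hom w = 0
    rw [Functor.map_zero]
    rfl
  rw [h x, h y]

/-- An ideal not meeting a curve pulls back with degree zero. -/
theorem pdeg_idealMod_zero {D Z : Scheme.{u}} [D.Over (Spec (CommRingCat.of k))]
    [IsProper (D ↘ Spec (CommRingCat.of k))] [IsIntegral D] (hdim : topologicalKrullDim D = 1)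
    (hreg : ∀ x : D, IsRegularLocalRing (D.presheaf.stalk x)) (φ : D ⟶ Z) {J : Z.IdealSheafData}
    (hJ : BlowUp.IsEffCartierIdeal J) (hout : ∀ d, φ d ∉ J.support) : pdeg k φ (ClSub.idealMod J) = 0 := by
  rw [pdeg_idealMod k hdim hreg φ hJ (hout _)]
  haveI := CurveRR.isNoetherian_of_proper k D
  have he : ((J.comap φ).support : Set D) = ∅ := by
    rw [Scheme.IdealSheafData.support_comap]
    exact Set.eq_empty_iff_forall_notMem.2 hout
  have hz0 : IsZero (ClSub.quotMod (J.comap φ)) :=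
    Devissage.isZero_of_support (Set.subset_empty_iff.1 ((CurveRR.support_quotMod (J.comap φ)).trans he.le))
  haveI : Subsingleton (Coh.HH D (ClSub.quotMod (J.comap φ)) 0) := subsingleton_hh_of_isZero hz0 0
  rw [show CurveRR.h k (ClSub.quotMod (J.comap φ)) 0 = 0 from Module.finrank_zero_of_subsingleton]
  rfl

/-- Nonnegative degree on all smooth proper curves. -/
def Nef1 {Y : Scheme.{u}} [Y.Over (Spec (CommRingCat.of k))] (M : Y.Modules) : Prop :=
  ∀ (D : Scheme.{u}) [D.Over (Spec (CommRingCat.of k))],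
    Curve.IsSmoothProperCurve k D (D ↘ Spec (CommRingCat.of k)) → ∀ φ : D ⟶ Y,
      φ ≫ (Y ↘ Spec (CommRingCat.of k)) = D ↘ Spec (CommRingCat.of k) → 0 ≤ pdeg k φ M

/-- A connected set, meeting one of the marked curves, covered by rational curves of small degree. -/
def Good {Y T : Scheme.{u}} [Y.Over (Spec (CommRingCat.of k))] {ι : Type} (σ : ι → (T ⟶ Y)) (M : Y.Modules)
    (N : ℤ) (b : ℕ) : Prop :=
  ∃ W : Set Y, _root_.IsConnected W ∧ (∃ i t, σ i t ∈ W) ∧
    ∃ (n : ℕ) (φ : Fin n → (CohB1.ProjSpace 1 k ⟶ Y)),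
      (∀ j, φ j ≫ (Y ↘ Spec (CommRingCat.of k)) = CohB1.ProjSpace.toSpec 1 k ∧
        (∀ y : Y, ¬ Set.range (φ j) ⊆ {y}) ∧ Set.range (φ j) ⊆ W ∧ pdeg k (φ j) M * b ≤ N) ∧
      (∀ w ∈ W, ∃ j, w ∈ Set.range (φ j)) ∧ ∃ j, 0 < pdeg k (φ j) M

theorem isSmoothProperCurve_p1 :
    Curve.IsSmoothProperCurve k (CohB1.ProjSpace 1 k) (CohB1.ProjSpace 1 k ↘ Spec (CommRingCat.of k)) :=
  ⟨ProjMor.isProper_toSpec 1 k, CycPB.smooth_toSpec 1 k, Horrocks.isIntegral_projSpace, Groth.Agent.S10829.result k 1⟩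

theorem surf_seq {S Y : Scheme.{u}} {g : S ⟶ Y} (hg : PtBlow.Seq g) :
    ∀ (oY : Y.Over (Spec (CommRingCat.of k))) (oS : S.Over (Spec (CommRingCat.of k))),
      g ≫ oY.hom = oS.hom → @Surf k _ Y oY → @Surf k _ S oS := by
  induction hg with
  | id X =>
    rintro oY ⟨h⟩ hh hY
    obtain rfl : oY.hom = h := by simpa using hh
    exact hY
  | @step Y' Z X b r z hz hN hb hr ih =>
    intro oY oS hh hY
    letI : X.Over (Spec (CommRingCat.of k)) := oY
    letI : Z.Over (Spec (CommRingCat.of k)) := ⟨r ≫ oY.hom⟩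
    letI : Y'.Over (Spec (CommRingCat.of k)) := oS
    exact surf_blowUp k hb ((Category.assoc b r oY.hom).symm.trans hh) (ih oY ⟨r ≫ oY.hom⟩ rfl hY)

section Step

variable {Y Z : Scheme.{u}} [Z.Over (Spec (CommRingCat.of k))] [Y.Over (Spec (CommRingCat.of k))] {b : Y ⟶ Z}
  {z : Z} {hz : PtBlow.IsRegPt Z z} (hb : BlowUp.IsBlowUp b (PtBlow.pt hz))
  (hover : b ≫ (Z ↘ Spec (CommRingCat.of k)) = Y ↘ Spec (CommRingCat.of k)) (hZ : Surf k Z)

include hb hover hZ

theorem exists_lift_curve {D : Scheme.{u}} [D.Over (Spec (CommRingCat.of k))]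
    (hD : Curve.IsSmoothProperCurve k D (D ↘ Spec (CommRingCat.of k))) (φ : D ⟶ Z)
    (hφ : φ ≫ (Z ↘ Spec (CommRingCat.of k)) = D ↘ Spec (CommRingCat.of k))
    (hη : ∀ [IrreducibleSpace D], φ (genericPoint D) ≠ z) :
    ∃ φ' : D ⟶ Y, φ' ≫ b = φ ∧ φ' ≫ (Y ↘ Spec (CommRingCat.of k)) = D ↘ Spec (CommRingCat.of k) := by
  obtain ⟨hDp, hDs, hDi, hDd⟩ := hD
  haveI := hDp
  haveI := hDs
  haveI := hDi
  haveI := hZ.proper
  haveI := CurveRR.isNoetherian_of_proper k Z
  haveI := CurveRR.isNoetherian_of_proper k D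
  haveI := PtBlow.isProper_blowUp hz hb
  haveI := BlowUpLib.isIso_restrict hb
  obtain ⟨φ', hφ'⟩ := BendBreak.exists_lift b (PtBlow.pt hz).support.compl
    (WeilExt.regular_of_smooth (WeilExt.regular_spec (R := k)) (D ↘ Spec (CommRingCat.of k)))
    (fun y => (RegDual.ringKrullDim_stalk_le_topologicalKrullDim y).trans hDd.le) φ
    ⟨genericPoint D, by
      show φ _ ∉ ((PtBlow.pt hz).support : Set Z)
      rw [PtBlow.coe_support_pt hz]; exact hη⟩
  exact ⟨φ', hφ', by rw [← hover, reassoc_of% hφ', hφ]⟩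

omit hover hZ in
theorem mem_exc {y : Y} : y ∈ ((PtBlow.pt hz).comap b).support ↔ b y = z := PtBlow.mem_support_comap_pt b hz

theorem isConnected_preimage {W : Set Z} (hW : _root_.IsConnected W) (hWc : IsClosed W) :
    _root_.IsConnected (b ⁻¹' W) ∧ ∀ w w' : Y, b w ≠ z → b w = b w' → w = w' := by
  haveI := hZ.proper
  haveI := CurveRR.isNoetherian_of_proper k Z
  haveI := PtBlow.isProper_blowUp hz hb
  haveI := BlowUpLib.isIso_restrict hb
  obtain ⟨l, hl, -, -, hlr, -⟩ := exists_line k hb hover hZ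
  haveI : IsIntegral (CohB1.ProjSpace 1 k) := Horrocks.isIntegral_projSpace
  have hsurj := PtBlow.surjective_blowUp hz hb
  have hoff : ∀ w w' : Y, b w ≠ z → b w = b w' → w = w' := fun w w' hw he => by
    have hmem : ∀ y : Y, b y ≠ z → b y ∈ (PtBlow.pt hz).support.compl := fun y hy => by
      show b y ∉ ((PtBlow.pt hz).support : Set Z)
      rw [PtBlow.coe_support_pt hz]; exact hy
    exact congrArg Subtype.val ((b ∣_ (PtBlow.pt hz).support.compl).homeomorph.injective
      (a₁ := ⟨w, hmem w hw⟩) (a₂ := ⟨w', hmem w' (he ▸ hw)⟩) (Subtype.ext (by simpa using he)))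
  refine ⟨Topology.IsCoinducing.isConnected_preimage_of_isClosed (fun v => ?_)
    (b.isClosedMap.isQuotientMap b.continuous hsurj).isCoinducing hWc hW, hoff⟩
  by_cases hv : v = z
  · rw [hv, ← hlr]; exact isConnected_range l.continuous
  · obtain ⟨w, hw⟩ := hsurj v
    rw [show b ⁻¹' {v} = {w} from Set.eq_singleton_iff_unique_mem.2
      ⟨hw, fun w' hw' => hoff w' w (by rw [show b w' = v from hw']; exact hv) (hw'.trans hw.symm)⟩]
    exact isConnected_singleton

end Step

variable {T : Scheme.{u}} [T.Over (Spec (CommRingCat.of k))]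

set_option maxHeartbeats 4000000 in
/-- If no small rational curves meet the marked curves, the degree drop on them is bounded by the drop of
self-intersection. -/
theorem seq_bound (hT : Curve.IsSmoothProperCurve k T (T ↘ Spec (CommRingCat.of k))) {ι : Type} [Fintype ι]
    {N : ℤ} (hN : 0 ≤ N) (c : ℕ) {S Y : Scheme.{u}} {g : S ⟶ Y} (hg : PtBlow.Seq g) :
    ∀ (oY : Y.Over (Spec (CommRingCat.of k))) (oS : S.Over (Spec (CommRingCat.of k))),
      g ≫ oY.hom = oS.hom → @Surf k _ Y oY → ∀ (p : Y ⟶ T), p ≫ (T ↘ Spec (CommRingCat.of k)) = oY.hom →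
      ∀ (σ : ι → (T ⟶ S)), (∀ i, σ i ≫ g ≫ p = 𝟙 T) → (∀ i j, i ≠ j → ∀ t, g (σ i t) ≠ g (σ j t)) →
      ∀ (M : S.Modules), PicF.IsInvertible M → @Nef1 k _ S oS M → ¬ @Good k _ S T oS ι σ M N c →
      ∃ M₀ : Y.Modules, PicF.IsInvertible M₀ ∧ @Nef1 k _ Y oY M₀ ∧
        ((N + 1 : ℤ) : ℚ) * ((∑ i, pdeg k (σ i ≫ g) M₀ - ∑ i, pdeg k (σ i) M : ℤ) : ℚ) ≤
          (c : ℚ) * (@Nakai.inter Y k _ oY M₀ M₀ - @Nakai.inter S k _ oS M M) ∧
        ∃ E : Set Y, E.Finite ∧ (∀ x ∈ E, IsClosed ({x} : Set Y)) ∧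
          ∀ (D : Scheme.{u}) [D.Over (Spec (CommRingCat.of k))],
            Curve.IsSmoothProperCurve k D (D ↘ Spec (CommRingCat.of k)) → ∀ τ : D ⟶ S,
              (∀ d, g (τ d) ∉ E) → pdeg k (τ ≫ g) M₀ = pdeg k τ M := by
  classical
  obtain ⟨hTp, hTs, hTi, hTd⟩ := id hT
  haveI := hTp
  haveI := hTs
  haveI := hTi
  haveI := CurveRR.isNoetherian_of_proper k T
  have hTreg := WeilExt.regular_of_smooth (WeilExt.regular_spec (R := k)) (T ↘ Spec (CommRingCat.of k))
  induction hg with
  | id X =>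
    rintro oY ⟨h⟩ hh hY p hp σ hσ hdisj M hM hn hgood
    obtain rfl : oY.hom = h := by simpa using hh
    refine ⟨M, hM, hn, le_of_eq ?_, ∅, Set.finite_empty, by simp, fun D _ _ τ _ => ?_⟩
    · simp [Category.comp_id]
    · simp [Category.comp_id]
  | @step Y' Z X b r z hz hNz hb hr ih =>
    intro oY oS hh hX p hp σ hσ hdisj M hM hn hgood
    letI : X.Over (Spec (CommRingCat.of k)) := oY
    letI : Z.Over (Spec (CommRingCat.of k)) := ⟨r ≫ oY.hom⟩
    letI : Y'.Over (Spec (CommRingCat.of k)) := oS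
    have hover : b ≫ (Z ↘ Spec (CommRingCat.of k)) = Y' ↘ Spec (CommRingCat.of k) :=
      (Category.assoc b r oY.hom).symm.trans hh
    have hZ : Surf k Z := surf_seq k hr oY ⟨r ≫ oY.hom⟩ rfl hX
    have hY' := surf_blowUp k hb hover hZ
    haveI := hX.proper
    haveI := hZ.proper
    haveI := hY'.proper
    obtain ⟨l, hl, hlov, hlk, hlr, ⟨cl⟩⟩ := exists_line k hb hover hZ
    haveI := hl
    haveI : IsIntegral (CohB1.ProjSpace 1 k) := Horrocks.isIntegral_projSpace
    haveI : IsProper (CohB1.ProjSpace 1 k ↘ Spec (CommRingCat.of k)) := ProjMor.isProper_toSpec 1 k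
    have hP1 := Groth.Agent.S10829.result k 1
    haveI : Smooth (CohB1.ProjSpace 1 k ↘ Spec (CommRingCat.of k)) := (isSmoothProperCurve_p1 k).2.1
    have hP1reg := WeilExt.regular_of_smooth (WeilExt.regular_spec (R := k))
      (CohB1.ProjSpace 1 k ↘ Spec (CommRingCat.of k))
    obtain ⟨a, ha⟩ := Int.eq_ofNat_of_zero_le (hn _ (isSmoothProperCurve_p1 k) l hlov)
    obtain ⟨M', hM', ⟨eM⟩, hQ⟩ := exists_descent k hb hover hZ hM hlov hlk hlr cl a ha
    have hE : BlowUp.IsEffCartierIdeal l.ker := hlk ▸ hb.1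
    have hI : PicF.IsInvertible (ClSub.idealMod l.ker) := (Groth.Agent.S8914.result _).2 hE
    have hmemE : ∀ y : Y', y ∈ l.ker.support ↔ b y = z := fun y => by rw [hlk]; exact mem_exc hb
    have hsplit : ∀ {D : Scheme.{u}} [D.Over (Spec (CommRingCat.of k))] [IsProper (D ↘ Spec (CommRingCat.of k))]
        [IsIntegral D], topologicalKrullDim D = 1 → ∀ φ : D ⟶ Y',
        pdeg k φ M = pdeg k (φ ≫ b) M' + a * pdeg k φ (ClSub.idealMod l.ker) := fun {D} _ _ _ hD φ => by
      rw [pdeg_iso k φ eM, pdeg_tensor k hD φ (PicLoc.isInvertible_pullback b hM') (TMul.isInvertible_tensorPow hI a),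
        pdeg_comp]
      congr 1
      exact (W7Slope.deg_iso (k := k) (TMul.nonempty_pullPowIso φ (ClSub.idealMod l.ker) a).some.symm 1).trans
        (CurveRR.deg_tensorPow (k := k) hD.le (PicLoc.isInvertible_pullback φ hI) a)
    let σ' : ι → (T ⟶ Z) := fun i => σ i ≫ b
    have hσ' : ∀ i, σ' i ≫ r ≫ p = 𝟙 T := fun i => by simpa [σ', Category.assoc] using hσ i
    have hdisj' : ∀ i j, i ≠ j → ∀ t, r (σ' i t) ≠ r (σ' j t) := fun i j hij t => by
      simpa [σ', Scheme.Hom.comp_apply] using hdisj i j hij t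
    have hone : ∀ i j t t', σ' i t = z → σ' j t' = z → i = j ∧ t = t' := fun i j t t' h1 h2 => by
      have e : ∀ i t, p (r (σ' i t)) = t := fun i t => by
        rw [← Scheme.Hom.comp_apply, ← Scheme.Hom.comp_apply, hσ']; rfl
      have htt : t = t' := by rw [← e i t, ← e j t', h1, h2]
      subst htt
      exact ⟨by_contra fun hij => hdisj' i j hij t (by rw [h1, h2]), rfl⟩
    have hσc : ∀ i, IsClosedImmersion (σ' i) := fun i => by
      haveI : IsClosedImmersion (σ' i ≫ r ≫ p) := by rw [hσ']; infer_instance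
      haveI : IsSeparated p := by
        haveI : IsSeparated (p ≫ (T ↘ Spec (CommRingCat.of k))) := by rw [hp]; exact inferInstanceAs (IsSeparated (X ↘ Spec (CommRingCat.of k)))
        exact IsSeparated.of_comp p (T ↘ Spec (CommRingCat.of k))
      haveI := hr.isProper
      exact IsClosedImmersion.of_comp (σ' i) (r ≫ p)
    have hTne : ∀ t : T, IsClosed ({t} : Set T) → genericPoint T ≠ t := fun t ht =>
      CurveRR.genericPoint_ne_of_closed (k := k) hTd ht
    have hσgen : ∀ i, σ' i (genericPoint T) ≠ z := fun i h => by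
      haveI := hσc i
      refine hTne _ ?_ rfl
      have h1 := hz.closed.preimage (σ' i).continuous
      rwa [show σ' i ⁻¹' {z} = {genericPoint T} by
        rw [← h, ← Set.image_singleton, (σ' i).isEmbedding.injective.preimage_image]] at h1
    have hδ : ∀ i, pdeg k (σ i) (ClSub.idealMod l.ker) = if ∃ t, σ' i t = z then -1 else 0 := fun i => by
      split_ifs with hit
      · obtain ⟨t, ht⟩ := hit
        haveI := hσc i
        have htc : IsClosed ({t} : Set T) := by
          have h1 := hz.closed.preimage (σ' i).continuous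
          rwa [show σ' i ⁻¹' {z} = {t} by
            rw [← ht, ← Set.image_singleton, (σ' i).isEmbedding.injective.preimage_image]] at h1
        refine pdeg_idealMod_point k hTd hTreg (σ i) hE (fun h => hσgen i ?_) htc ?_
        · exact (Scheme.Hom.comp_apply (σ i) b _).trans ((hmemE _).1 h)
        · rw [hlk, ← Scheme.IdealSheafData.comap_comp]
          subst ht
          exact ResolveCurve.comap_vanishingIdeal_point (σ' i) htc hz.closed
      · exact pdeg_idealMod_zero k hTd hTreg (σ i) hE fun t h =>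
          hit ⟨t, (Scheme.Hom.comp_apply (σ i) b t).trans ((hmemE _).1 h)⟩
    have hn' : Nef1 k M' := by
      intro D oD hD φ hφ
      obtain ⟨hDp, hDs, hDi, hDd⟩ := id hD
      haveI := hDp
      haveI := hDs
      haveI := hDi
      by_cases hη : φ (genericPoint D) = z
      · refine le_of_eq (pdeg_const k hDd φ z (fun d => ?_) hM').symm
        exact ((genericPoint_specializes d).map φ.continuous).mem_closed hz.closed hη
      obtain ⟨φ', hφ', hφ'o⟩ := exists_lift_curve k hb hover hZ hD φ hφ hη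
      have h1 := hsplit hDd φ'
      rw [hφ'] at h1
      have h2 := pdeg_idealMod_nonpos k hDd (WeilExt.regular_of_smooth (WeilExt.regular_spec (R := k))
        (D ↘ Spec (CommRingCat.of k))) φ' hE (fun h => hη (by
          rw [← hφ', Scheme.Hom.comp_apply]; exact (hmemE _).1 h))
      have h3 := hn D hD φ' hφ'o
      nlinarith
    have hgood' : ¬ Good k σ' M' N c := by
      rintro ⟨W, hW, ⟨i, t, hit⟩, n, φ, hφ, hcov, j₀, hj₀⟩
      refine hgood ?_
      have hη : ∀ j, φ j (genericPoint (CohB1.ProjSpace 1 k)) ≠ z := fun j h => (hφ j).2.1 z (by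
        rintro _ ⟨d, rfl⟩
        exact ((genericPoint_specializes d).map (φ j).continuous).mem_closed hz.closed h)
      choose φ' hφ' hφ'o using fun j => exists_lift_curve k hb hover hZ (isSmoothProperCurve_p1 k) (φ j) (hφ j).1 (hη j)
      have hdeg : ∀ j, pdeg k (φ j) M' = pdeg k (φ' j) M - a * pdeg k (φ' j) (ClSub.idealMod l.ker) ∧
          pdeg k (φ' j) (ClSub.idealMod l.ker) ≤ 0 ∧ 0 ≤ pdeg k (φ' j) M ∧
          (z ∈ Set.range (φ j) → pdeg k (φ' j) (ClSub.idealMod l.ker) ≤ -1) ∧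
          (z ∉ Set.range (φ j) → pdeg k (φ' j) (ClSub.idealMod l.ker) = 0) := fun j => by
        have hg0 : φ' j (genericPoint _) ∉ l.ker.support := fun h => hη j (by
          rw [← hφ' j, Scheme.Hom.comp_apply]; exact (hmemE _).1 h)
        refine ⟨?_, pdeg_idealMod_nonpos k hP1 hP1reg (φ' j) hE hg0, hn _ (isSmoothProperCurve_p1 k) _ (hφ'o j),
          ?_, fun hzj => ?_⟩
        · have h1 := hsplit hP1 (φ' j)
          rw [hφ' j] at h1
          linarith
        · rintro ⟨d, hd⟩
          exact pdeg_idealMod_neg k hP1 hP1reg (φ' j) hE hg0 (d := d) ((hmemE _).2 (by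
            rw [← Scheme.Hom.comp_apply, hφ' j]; exact hd))
        · refine pdeg_idealMod_zero k hP1 hP1reg (φ' j) hE fun d h => hzj ⟨d, ?_⟩
          rw [← hφ' j, Scheme.Hom.comp_apply]; exact (hmemE _).1 h
      have hWc : IsClosed W := by
        have hWeq : W = ⋃ j, Set.range (φ j) := by
          ext w
          exact ⟨fun hw => Set.mem_iUnion.2 (hcov w hw), fun hw => by
            obtain ⟨j, hj⟩ := Set.mem_iUnion.1 hw; exact (hφ j).2.2.1 hj⟩
        rw [hWeq]
        refine isClosed_iUnion_of_finite fun j => ?_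
        haveI : IsProper (φ j ≫ (Z ↘ Spec (CommRingCat.of k))) := by
          rw [(hφ j).1]; exact ProjMor.isProper_toSpec 1 k
        haveI : IsProper (φ j) := IsProper.of_comp (φ j) (Z ↘ Spec (CommRingCat.of k))
        exact (φ j).isClosedMap.isClosed_range
      obtain ⟨hconn, hoff⟩ := isConnected_preimage k hb hover hZ hW hWc
      have hmul : ∀ j, pdeg k (φ' j) M * (c : ℤ) ≤ N := fun j => by
        obtain ⟨h1, h2, -, -, -⟩ := hdeg j
        have h3 : pdeg k (φ' j) M ≤ pdeg k (φ j) M' := by nlinarith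
        exact le_trans (mul_le_mul_of_nonneg_right h3 (Int.natCast_nonneg c)) (hφ j).2.2.2
      have hrange' : ∀ j, Set.range (φ' j) ⊆ b ⁻¹' W := fun j => by
        rintro _ ⟨d, rfl⟩
        show b (φ' j d) ∈ W
        rw [← Scheme.Hom.comp_apply, hφ' j]
        exact (hφ j).2.2.1 ⟨d, rfl⟩
      have hnc' : ∀ j (y : Y'), ¬ Set.range (φ' j) ⊆ {y} := fun j y h => (hφ j).2.1 (b y) (by
        rintro _ ⟨d, rfl⟩
        rw [← hφ' j, Scheme.Hom.comp_apply, h ⟨d, rfl⟩]
        rfl)
      have hcov' : ∀ w ∈ b ⁻¹' W, b w ≠ z → ∃ j, w ∈ Set.range (φ' j) := fun w hw hwz => by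
        obtain ⟨j, d, hd⟩ := hcov _ hw
        exact ⟨j, d, (hoff w (φ' j d) hwz (by rw [← Scheme.Hom.comp_apply, hφ' j, hd])).symm⟩
      have hmeet : ∃ i t, σ i t ∈ b ⁻¹' W := ⟨i, t, by
        show b (σ i t) ∈ W
        rw [← Scheme.Hom.comp_apply]; exact hit⟩
      by_cases hzW : z ∈ W
      · obtain ⟨j₁, hj₁⟩ := hcov z hzW
        refine ⟨b ⁻¹' W, hconn, hmeet, n + 1, Fin.cases l φ', ?_, ?_, ?_⟩
        · intro j
          induction j using Fin.cases with
          | zero =>
            refine ⟨hlov, fun y h => ?_, ?_, ?_⟩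
            · obtain ⟨d₁, d₂, hd⟩ := BendBreak.exists_ne_p1 k
              exact hd (l.isClosedEmbedding.injective ((h ⟨d₁, rfl⟩).trans (h ⟨d₂, rfl⟩).symm))
            · simp only [Fin.cases_zero]; rw [hlr]
              intro y hy
              show b y ∈ W
              rw [show b y = z from hy]; exact hzW
            · obtain ⟨h1, -, h2, h3, -⟩ := hdeg j₁
              have h4 := h3 hj₁
              have h5 : (a : ℤ) ≤ pdeg k (φ j₁) M' := by nlinarith
              simp only [Fin.cases_zero]; rw [ha]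
              exact le_trans (mul_le_mul_of_nonneg_right h5 (Int.natCast_nonneg c)) (hφ j₁).2.2.2
          | succ j => exact ⟨hφ'o j, hnc' j, hrange' j, hmul j⟩
        · intro w hw
          by_cases hwz : b w = z
          · exact ⟨0, by simp only [Fin.cases_zero]; rw [hlr]; exact hwz⟩
          · obtain ⟨j, hj⟩ := hcov' w hw hwz
            exact ⟨j.succ, hj⟩
        · by_cases hp0 : 0 < pdeg k (φ' j₀) M
          · exact ⟨j₀.succ, hp0⟩
          · refine ⟨0, ?_⟩
            obtain ⟨h1, h2, h3, -, -⟩ := hdeg j₀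
            simp only [Fin.cases_zero]; rw [ha]
            by_contra ha0
            have : (a : ℤ) = 0 := by omega
            rw [this] at h1
            omega
      · refine ⟨b ⁻¹' W, hconn, hmeet, n, φ', fun j => ⟨hφ'o j, hnc' j, hrange' j, hmul j⟩,
          fun w hw => hcov' w hw fun h => hzW (h ▸ hw), j₀, ?_⟩
        obtain ⟨h1, -, -, -, h5⟩ := hdeg j₀
        rw [h5 fun h => hzW ((hφ j₀).2.2.1 h)] at h1
        linarith
    obtain ⟨M₀, hM₀, hn₀, hle, E, hEf, hEc, hEdeg⟩ := ih oY ⟨r ≫ oY.hom⟩ rfl hX p hp σ' hσ' hdisj' M' hM' hn' hgood'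
    have hrz : IsClosed ({r z} : Set X) := by
      haveI := hr.isProper
      have := r.isClosedMap _ hz.closed
      rwa [Set.image_singleton] at this
    refine ⟨M₀, hM₀, hn₀, ?_, insert (r z) E, hEf.insert _, ?_, fun D oD hD τ hτ => ?_⟩
    rotate_left
    · rintro x (rfl | hx)
      exacts [hrz, hEc x hx]
    · obtain ⟨hDp, hDs, hDi, hDd⟩ := id hD
      haveI := hDp
      haveI := hDs
      haveI := hDi
      have hout : ∀ d, b (τ d) ≠ z := fun d h => hτ d (Or.inl (by rw [Scheme.Hom.comp_apply, h]))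
      rw [← Category.assoc τ b r, hEdeg D hD (τ ≫ b) (fun d h => hτ d (Or.inr (by
        simpa [Scheme.Hom.comp_apply] using h))), hsplit hDd τ, pdeg_idealMod_zero k hDd
        (WeilExt.regular_of_smooth (WeilExt.regular_spec (R := k)) (D ↘ Spec (CommRingCat.of k))) τ hE
        (fun d h => hout d ((hmemE _).1 h)), mul_zero, add_zero]
    have hsum : (∑ i, pdeg k (σ' i) M') - ∑ i, pdeg k (σ i) M =
        (a : ℤ) * ∑ i, (if ∃ t, σ' i t = z then 1 else 0 : ℤ) := by
      rw [← Finset.sum_sub_distrib, Finset.mul_sum]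
      refine Finset.sum_congr rfl fun i _ => ?_
      rw [hsplit hTd (σ i), hδ i]
      split_ifs <;> ring
    have hstep : ((N + 1 : ℤ) : ℚ) * (((a : ℤ) * ∑ i, (if ∃ t, σ' i t = z then 1 else 0 : ℤ) : ℤ) : ℚ) ≤
        (c : ℚ) * (a : ℚ) ^ 2 := by
      have hnn : (0 : ℚ) ≤ (c : ℚ) * (a : ℚ) ^ 2 := by positivity
      by_cases hhit : ∃ i, ∃ t, σ' i t = z
      · obtain ⟨i, t, ht⟩ := hhit
        rw [Finset.sum_eq_single i (fun j _ hj => if_neg fun ⟨t', ht'⟩ => hj (hone j i t' t ht' ht).1)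
          (fun h => absurd (Finset.mem_univ i) h), if_pos ⟨t, ht⟩, mul_one]
        rcases Nat.eq_zero_or_pos a with rfl | ha0
        · simp
        have hbig : N + 1 ≤ (a : ℤ) * c := by
          by_contra hlt
          refine hgood ⟨Set.range l, isConnected_range l.continuous, ⟨i, t, ?_⟩, 1, fun _ => l,
            fun _ => ⟨hlov, fun y h => ?_, subset_rfl, by rw [ha]; omega⟩, fun w hw => ⟨0, hw⟩, 0, by rw [ha]; omega⟩
          · rw [hlr]
            show b (σ i t) = z
            rw [← Scheme.Hom.comp_apply]; exact ht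
          · obtain ⟨d₁, d₂, hd⟩ := BendBreak.exists_ne_p1 k
            exact hd (l.isClosedEmbedding.injective ((h ⟨d₁, rfl⟩).trans (h ⟨d₂, rfl⟩).symm))
        have hq : ((N + 1 : ℤ) : ℚ) ≤ (a : ℚ) * c := by exact_mod_cast hbig
        have := mul_le_mul_of_nonneg_right hq (Nat.cast_nonneg a : (0 : ℚ) ≤ a)
        push_cast at this ⊢
        linarith
      · push Not at hhit
        rw [Finset.sum_eq_zero fun i _ => if_neg fun ⟨t, ht⟩ => hhit i t ht, mul_zero, Int.cast_zero, mul_zero]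
        exact hnn
    rw [← hsum] at hstep
    have hcomp : ∀ i, σ' i ≫ r = σ i ≫ b ≫ r := fun i => Category.assoc _ _ _
    simp only [hcomp] at hle
    change _ ≤ (c : ℚ) * (Nakai.inter k M₀ M₀ - Nakai.inter k M' M') at hle
    change _ ≤ (c : ℚ) * (Nakai.inter k M₀ M₀ - Nakai.inter k M M)
    rw [hQ] at hle
    push_cast at hle hstep ⊢
    linarith

end Groth.Agent.BreakDeg
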